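import Cfsg.Agent.Lib.SuzukiTwo.Squares

/-!
# Structure of Suzuki 2-groups

`center_eq`: `Z(P) = {x | x * x = 1}`; `sq_mem`, `cm_sq`: squares and commutators are central
involutions; `card_eq`: `|P| = q ^ 2` or `q ^ 3`; `exponent_eq`: exponent 4.
-/

namespace Cfsg.Agent.SuzukiTwo

variable {P : Type*} [Group P] [Finite P] {K : Subgroup (MulAut P)}

theorem Sz.sq_mem (hS : Sz P K) (g : P) : g * g ∈ invSub P :=
  hS.mem_invSub.2 (pow_four_eq_one hS g)

theorem Sz.cm_mem_invSub (hS : Sz P K) (g h : P) : cm g h ∈ invSub P := by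
  rw [cm_eq_squares]
  refine mul_mem (mul_mem (hS.sq_mem _) ?_) (hS.sq_mem h⁻¹)
  simpa using hS.invSub_normal.conj_mem _ (inv_mem (hS.sq_mem g)) h⁻¹

theorem Sz.cm_sq (hS : Sz P K) (g h : P) : cm g h * cm g h = 1 :=
  hS.mem_invSub.1 (hS.cm_mem_invSub g h)

theorem Sz.center_eq (hS : Sz P K) : Subgroup.center P = invSub P := by
  refine le_antisymm (fun a ha => hS.mem_invSub.2 ?_) hS.invSub_le_center
  by_contra ha1
  obtain ⟨x, y, hxy⟩ := hS.nonab
  refine hxy ?_
  have key : ∀ g : P, g ∈ Subgroup.center P := by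
    intro g
    by_cases hg : g * g = 1
    · exact hS.central hg
    obtain ⟨k, hk, -⟩ := hS.reg (a * a) (g * g) ha1 (pow_four_eq_one hS a) hg (pow_four_eq_one hS g)
    have hka : (k : MulAut P) a ∈ Subgroup.center P := by
      rw [Subgroup.mem_center_iff]
      intro u
      obtain ⟨u, rfl⟩ := (k : MulAut P).surjective u
      rw [← map_mul, ← map_mul, Subgroup.mem_center_iff.1 ha u]
    set b := (k : MulAut P) a with hb
    have hbb : b * b = g * g := by rw [hb, ← map_mul]; exact hk
    have hi : g * b⁻¹ * (g * b⁻¹) = 1 := by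
      calc g * b⁻¹ * (g * b⁻¹) = g * (b⁻¹ * g) * b⁻¹ := by simp [mul_assoc]
        _ = g * (g * b⁻¹) * b⁻¹ := by rw [(Subgroup.mem_center_iff.1 (inv_mem hka) g)]
        _ = g * g * (b * b)⁻¹ := by simp [mul_assoc]
        _ = 1 := by rw [hbb, mul_inv_cancel]
    have := mul_mem (hS.central hi) hka
    rwa [inv_mul_cancel_right] at this
  exact (Subgroup.mem_center_iff.1 (key x) y).symm

theorem Sz.mem_center_iff_sq (hS : Sz P K) {x : P} : x ∈ Subgroup.center P ↔ x * x = 1 := by
  rw [hS.center_eq, hS.mem_invSub]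

theorem Sz.exists_not_mem (hS : Sz P K) : ∃ x : P, x ∉ invSub P := by
  by_contra h
  push Not at h
  obtain ⟨x, y, hxy⟩ := hS.nonab
  exact hxy (hS.commute (hS.mem_invSub.1 (h y)) x)

theorem Sz.exponent_eq (hS : Sz P K) : Monoid.exponent P = 4 := by
  have h4 : Monoid.exponent P ∣ 4 := Monoid.exponent_dvd_of_forall_pow_eq_one fun g => by
    rw [show (4 : ℕ) = 2 + 2 from rfl, pow_add, pow_two, pow_four_eq_one hS g]
  have hn2 : ¬ Monoid.exponent P ∣ 2 := by
    intro h
    obtain ⟨x, hx⟩ := hS.exists_not_mem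
    exact hx (hS.mem_invSub.2 (by
      rw [← pow_two]; exact orderOf_dvd_iff_pow_eq_one.1 ((Monoid.order_dvd_exponent x).trans h)))
  obtain ⟨i, hi, he⟩ := (Nat.dvd_prime_pow Nat.prime_two).1 (show Monoid.exponent P ∣ 2 ^ 2 from h4)
  rw [he] at hn2 ⊢
  interval_cases i
  · exact absurd (one_dvd 2) hn2
  · exact absurd (dvd_refl 2) hn2
  · rfl

/-- The squaring map is quadratic. -/
theorem Sz.toF_sq_mul (hS : Sz P K) {F : Type*} [Field F] (Co : Coord K F) (g h : P) :
    Co.toF (g * h * (g * h)) =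
      Co.toF (g * g) + Co.toF (h * h) + Co.toF (cm g⁻¹ h) := by
  have e1 : g * h * (g * h) = g * g * (cm g⁻¹ h) * (h * h) := by simp [cm, mul_assoc]
  rw [e1, Co.toF_mul (hS.mem_invSub.1 (mul_mem (hS.sq_mem g) (hS.cm_mem_invSub _ _)))
    (pow_four_eq_one hS h), Co.toF_mul (pow_four_eq_one hS g) (hS.cm_sq _ _)]
  ring

theorem Sz.toF_cm_mul_right (hS : Sz P K) {F : Type*} [Field F] (Co : Coord K F) (g h h' : P) :
    Co.toF (cm g (h * h')) = Co.toF (cm g h) + Co.toF (cm g h') := by
  rw [cm_mul_right, hS.commute (hS.cm_sq g h') h, mul_inv_cancel_right,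
    Co.toF_mul (hS.cm_sq g h) (hS.cm_sq g h')]

theorem Sz.toF_cm_mul_left (hS : Sz P K) {F : Type*} [Field F] (Co : Coord K F) (g g' h : P) :
    Co.toF (cm (g * g') h) = Co.toF (cm g h) + Co.toF (cm g' h) := by
  rw [cm_mul_left, hS.commute (hS.cm_sq g' h) g, mul_inv_cancel_right,
    Co.toF_mul (hS.cm_sq g' h) (hS.cm_sq g h), add_comm]

/-- `q - 1` divides `|P| - 1`. -/
theorem Sz.card_mod (hS : Sz P K) : Nat.card P ≡ 1 [MOD Nat.card K] := by
  classical
  let _ := Fintype.ofFinite P
  let _ := Fintype.ofFinite (MulAction.orbitRel.Quotient K P)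
  have hone : ∀ x : P, x ≠ 1 → Nat.card (MulAction.orbit K x) = Nat.card K := by
    intro x hx
    refine (Nat.card_congr (Equiv.ofBijective
      (fun k : K => (⟨k • x, k, rfl⟩ : MulAction.orbit K x)) ⟨?_, ?_⟩)).symm
    · intro a b h
      by_contra hab
      refine hx (hS.semireg (k := b⁻¹ * a) (by simpa [inv_mul_eq_one, eq_comm] using hab) ?_)
      have h' : a • x = b • x := congrArg Subtype.val h
      change (b⁻¹ * a) • x = x
      rw [mul_smul, h', inv_smul_smul]
    · rintro ⟨_, k, rfl⟩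
      exact ⟨k, rfl⟩
  have hfix : MulAction.orbit K (1 : P) = {1} := by
    ext y
    simp [MulAction.mem_orbit_iff, eq_comm]
  rw [Nat.card_congr (MulAction.selfEquivSigmaOrbits K P), Nat.card_sigma,
    ← Finset.add_sum_erase Finset.univ _ (Finset.mem_univ (⟦1⟧ : MulAction.orbitRel.Quotient K P))]
  have h1 : MulAction.orbit K (Quotient.out (⟦1⟧ : MulAction.orbitRel.Quotient K P)) = {1} := by
    rw [← hfix, MulAction.orbit_eq_iff]
    exact Quotient.exact (Quotient.out_eq (⟦1⟧ : MulAction.orbitRel.Quotient K P))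
  rw [h1]
  simp only [Nat.card_unique]
  refine (Nat.ModEq.add_left (b := 0) 1 ?_).trans rfl
  rw [Nat.modEq_zero_iff_dvd]
  refine Finset.dvd_sum fun ω hω => ?_
  rw [hone _ fun h => Finset.ne_of_mem_erase hω (by rw [← Quotient.out_eq ω, h])]

theorem zmod_two_cases : ∀ x : ZMod 2, x = 0 ∨ x = 1 := by decide

/-- Chevalley-Warning: `m` quadratic forms in more than `2 m` variables have a common zero. -/
theorem finrank_le_of_anisotropic {V : Type*} [AddCommGroup V] [Module (ZMod 2) V] [Finite V]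
    {m : ℕ} (f : Fin m → V → ZMod 2) (B : Fin m → V → V → ZMod 2)
    (hf : ∀ i u v, f i (u + v) = f i u + f i v + B i u v)
    (hBl : ∀ i u u' v, B i (u + u') v = B i u v + B i u' v)
    (hBr : ∀ i u v v', B i u (v + v') = B i u v + B i u v')
    (h0 : ∀ v, (∀ i, f i v = 0) → v = 0) : Module.finrank (ZMod 2) V ≤ 2 * m := by
  classical
  have : Fact (Nat.Prime 2) := ⟨Nat.prime_two⟩
  have : Module.Finite (ZMod 2) V := Module.Finite.of_finite
  let b := Module.finBasis (ZMod 2) V
  have hBl0 : ∀ i v, B i 0 v = 0 := fun i v => by simpa using hBl i 0 0 v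
  have hBr0 : ∀ i u, B i u 0 = 0 := fun i u => by simpa using hBr i u 0 0
  have hf0 : ∀ i, f i 0 = 0 := fun i => by simpa [hBl0] using hf i 0 0
  have hsf : ∀ i (x : ZMod 2) v, f i (x • v) = x * f i v := by
    intro i x v
    rcases zmod_two_cases x with rfl | rfl <;> simp [hf0]
  have hsl : ∀ i (x : ZMod 2) u v, B i (x • u) v = x * B i u v := by
    intro i x u v
    rcases zmod_two_cases x with rfl | rfl <;> simp [hBl0]
  have hsr : ∀ i (x : ZMod 2) u v, B i u (x • v) = x * B i u v := by
    intro i x u v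
    rcases zmod_two_cases x with rfl | rfl <;> simp [hBr0]
  have hsum : ∀ i u (s : Finset (Fin (Module.finrank (ZMod 2) V))) (g : _ → V),
      B i u (∑ a ∈ s, g a) = ∑ a ∈ s, B i u (g a) := fun i u s g =>
    map_sum (AddMonoidHom.mk' (B i u) (hBr i u)) g s
  have hpoly : ∀ i (s : Finset (Fin (Module.finrank (ZMod 2) V))),
      ∃ p : MvPolynomial (Fin (Module.finrank (ZMod 2) V)) (ZMod 2), p.totalDegree ≤ 2 ∧
        ∀ x, MvPolynomial.eval x p = f i (∑ a ∈ s, x a • b a) := by
    intro i s
    induction s using Finset.induction_on with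
    | empty => exact ⟨0, by simp, fun x => by simp [hf0]⟩
    | @insert a s ha ih =>
      obtain ⟨p, hp, hpe⟩ := ih
      refine ⟨MvPolynomial.C (f i (b a)) * MvPolynomial.X a + p +
        ∑ c ∈ s, MvPolynomial.C (B i (b a) (b c)) * (MvPolynomial.X a * MvPolynomial.X c), ?_,
        fun x => ?_⟩
      · refine (MvPolynomial.totalDegree_add _ _).trans (max_le
          ((MvPolynomial.totalDegree_add _ _).trans (max_le ?_ hp)) ?_)
        · refine (MvPolynomial.totalDegree_mul _ _).trans ?_
          simp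
        · refine (MvPolynomial.totalDegree_finsetSum _ _).trans (Finset.sup_le fun c _ => ?_)
          refine (MvPolynomial.totalDegree_mul _ _).trans ?_
          refine (Nat.add_le_add (le_of_eq (MvPolynomial.totalDegree_C _))
            (MvPolynomial.totalDegree_mul _ _)).trans ?_
          simp
      · rw [Finset.sum_insert ha, hf, hsum]
        simp only [map_add, map_mul, map_sum, MvPolynomial.eval_C, MvPolynomial.eval_X, hpe,
          hsf, hsl, hsr]
        congr 1
        · ring
        · refine Finset.sum_congr rfl fun c _ => ?_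
          ring
  choose p hp hpe using fun i => hpoly i Finset.univ
  by_contra hlt
  have hdeg : ∑ i, (p i).totalDegree < Fintype.card (Fin (Module.finrank (ZMod 2) V)) :=
    lt_of_le_of_lt (Finset.sum_le_sum fun i _ => hp i) (by
      simp only [Finset.sum_const, Finset.card_univ, Fintype.card_fin, smul_eq_mul]; omega)
  have hdvd := char_dvd_card_solutions_of_fintype_sum_lt 2 hdeg
  have hone : Nat.card {x : Fin (Module.finrank (ZMod 2) V) → ZMod 2 //
      ∀ i, MvPolynomial.eval x (p i) = 0} = 1 := by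
    rw [Nat.card_eq_one_iff_exists]
    refine ⟨⟨0, fun i => by rw [hpe]; simp [hf0]⟩, fun ⟨x, hx⟩ => Subtype.ext ?_⟩
    have hz : ∑ a, x a • b a = 0 := h0 _ fun i => by rw [← hpe]; exact hx i
    exact funext (Fintype.linearIndependent_iff.1 b.linearIndependent x hz)
  rw [Fintype.card_eq_nat_card, hone] at hdvd
  exact absurd hdvd (by norm_num)

theorem Sz.card_quotient_le (hS : Sz P K) {m : ℕ} (hm : 2 ≤ m) (Co : Coord K (GaloisField 2 m)) :
    (invSub P).index ≤ 2 ^ (2 * m) := by
  classical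
  have : (invSub P).Normal := hS.invSub_normal
  let _ : CommGroup (P ⧸ invSub P) :=
    { (inferInstance : Group (P ⧸ invSub P)) with
      mul_comm := fun a b => QuotientGroup.induction_on a fun x => QuotientGroup.induction_on b
        fun y => (QuotientGroup.eq.2 (by
          rw [show (x * y)⁻¹ * (y * x) = cm y⁻¹ x⁻¹ by simp [cm, mul_assoc]]
          exact hS.cm_mem_invSub _ _) :) }
  let V := Additive (P ⧸ invSub P)
  let _ : Module (ZMod 2) V := AddCommGroup.zmodModule (n := 2) fun v => by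
    induction v using Additive.rec with
    | ofMul v =>
      induction v using QuotientGroup.induction_on with
      | H x =>
        rw [two_nsmul]
        exact congrArg Additive.ofMul ((QuotientGroup.eq_one_iff (x * x)).2 (hS.sq_mem x))
  have : Module.Finite (ZMod 2) (GaloisField 2 m) := inferInstance
  let bF : Module.Basis (Fin m) (ZMod 2) (GaloisField 2 m) :=
    (Module.finBasis (ZMod 2) (GaloisField 2 m)).reindex (finCongr (GaloisField.finrank 2 (by omega)))
  let rep : V → P := fun v => (Additive.toMul v).out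
  have hrep : ∀ v, Additive.ofMul ((rep v : P) : P ⧸ invSub P) = v := fun v =>
    congrArg Additive.ofMul (QuotientGroup.out_eq' (Additive.toMul v))
  have hwd : ∀ g v, Additive.ofMul ((g : P) : P ⧸ invSub P) = v →
      Co.toF (rep v * rep v) = Co.toF (g * g) ∧ (∀ h, Co.toF (cm (rep v)⁻¹ h) = Co.toF (cm g⁻¹ h)) ∧
        ∀ h, Co.toF (cm h (rep v)) = Co.toF (cm h g) := by
    intro g v hv
    have hz : g⁻¹ * rep v ∈ invSub P := by
      rw [← QuotientGroup.eq]
      exact congrArg Additive.toMul (hv.trans (hrep v).symm)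
    set z := g⁻¹ * rep v with hz'
    have hzz := hS.mem_invSub.1 hz
    rw [show rep v = g * z by simp [hz']]
    refine ⟨?_, fun h => ?_, fun h => ?_⟩
    · rw [show g * z * (g * z) = g * (z * g) * z by simp [mul_assoc], ← hS.commute hzz g,
        show g * (g * z) * z = g * g * (z * z) by simp [mul_assoc], hzz, mul_one]
    · rw [mul_inv_rev, hS.toF_cm_mul_left Co, show cm z⁻¹ h = 1 from cm_eq_one.2
        (hS.commute (by rw [← mul_inv_rev, hzz, inv_one]) h).symm, Co.toF_one, zero_add]
    · rw [hS.toF_cm_mul_right Co, show cm h z = 1 from cm_eq_one.2 (hS.commute hzz h),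
        Co.toF_one, add_zero]
  have hadd : ∀ u v, Additive.ofMul ((rep u * rep v : P) : P ⧸ invSub P) = u + v := fun u v => by
    rw [QuotientGroup.mk_mul, ofMul_mul, hrep, hrep]
  have h := finrank_le_of_anisotropic (V := V)
    (fun i v => bF.coord i (Co.toF (rep v * rep v)))
    (fun i u v => bF.coord i (Co.toF (cm (rep u)⁻¹ (rep v)))) ?_ ?_ ?_ ?_
  · calc (invSub P).index = Nat.card V := Nat.card_congr Additive.ofMul
      _ = 2 ^ Module.finrank (ZMod 2) V := by
        rw [Module.natCard_eq_pow_finrank (K := ZMod 2), Nat.card_zmod]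
      _ ≤ 2 ^ (2 * m) := Nat.pow_le_pow_right (by norm_num) h
  · intro i u v
    rw [(hwd _ _ (hadd u v)).1, hS.toF_sq_mul Co, map_add, map_add]
  · intro i u u' v
    rw [(hwd _ _ (hadd u u')).2.1, mul_inv_rev, hS.toF_cm_mul_left Co, map_add, add_comm]
  · intro i u v v'
    rw [(hwd _ _ (hadd v v')).2.2, hS.toF_cm_mul_right Co, map_add]
  · intro v hv
    have h0 : Co.toF (rep v * rep v) = 0 :=
      bF.forall_coord_eq_zero_iff.1 hv
    rw [Co.toF_eq_zero (pow_four_eq_one hS _), ← hS.mem_invSub, ← QuotientGroup.eq_one_iff] at h0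
    rw [← hrep v, h0]
    rfl

theorem Sz.card_eq (hS : Sz P K) :
    Nat.card P = Nat.card (invSub P) ^ 2 ∨ Nat.card P = Nat.card (invSub P) ^ 3 := by
  classical
  have : Fact (Nat.Prime 2) := ⟨Nat.prime_two⟩
  obtain ⟨m, hm, hcard, ⟨Co⟩⟩ := hS.exists_coord
  obtain ⟨n, hn⟩ := IsPGroup.iff_card.1 hS.pgroup
  have hK : Nat.card K = 2 ^ m - 1 := by
    rw [Nat.card_congr (Equiv.ofBijective _ Co.lam_bij), Nat.card_units, GaloisField.card 2 m (by omega)]
  have hle := hS.card_quotient_le hm Co
  have hmul := (invSub P).card_mul_index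
  rw [hcard, hn] at hmul
  have hmn : m < n := by
    obtain ⟨x, hx⟩ := hS.exists_not_mem
    have : (invSub P).index ≠ 1 := fun h => hx (by rw [Subgroup.index_eq_one.1 h]; trivial)
    have h1 : 2 ^ m < 2 ^ n := by
      rw [← hmul]
      refine lt_mul_right (by positivity) ?_
      have := Subgroup.index_ne_zero_of_finite (H := invSub P)
      omega
    exact (Nat.pow_lt_pow_iff_right (by norm_num)).1 h1
  have hn3 : n ≤ 3 * m := by
    have : 2 ^ n ≤ 2 ^ (m + 2 * m) := by
      rw [← hmul, pow_add]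
      exact Nat.mul_le_mul_left _ hle
    have := (Nat.pow_le_pow_iff_right (by norm_num)).1 this
    omega
  have hdvd : 2 ^ m - 1 ∣ 2 ^ n - 1 := by
    have h := (Nat.modEq_iff_dvd' Nat.one_le_two_pow).1 (hn ▸ hS.card_mod).symm
    rwa [hK] at h
  have hmdvd : m ∣ n := by
    have h := Nat.pow_sub_one_gcd_pow_sub_one 2 m n
    rw [Nat.gcd_eq_left hdvd] at h
    have h' : 2 ^ m = 2 ^ Nat.gcd m n := by
      have := Nat.one_le_two_pow (n := m)
      have := Nat.one_le_two_pow (n := Nat.gcd m n)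
      omega
    exact Nat.gcd_eq_left_iff_dvd.1 (Nat.pow_right_injective le_rfl h').symm
  obtain ⟨c, rfl⟩ := hmdvd
  have hc1 : 1 < c := by
    by_contra h
    interval_cases c <;> omega
  have hc3 : c ≤ 3 := Nat.le_of_mul_le_mul_left (by omega : m * c ≤ m * 3) (by omega)
  rw [hn, hcard, ← pow_mul, ← pow_mul]
  interval_cases c
  · exact Or.inl rfl
  · exact Or.inr rfl

end Cfsg.Agent.SuzukiTwo
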