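import Mathlib

/-!
# Field-theoretic lemmas for Higman's theorem on Suzuki 2-groups

* `exists_field_coord`: an elementary abelian 2-group with a cyclic group acting regularly on the
  nonzero elements is the additive group of `GaloisField 2 m`, the action being multiplication.
* `hua`: an alternating biadditive map with `B (c x) (c y) = c B x y` vanishes.
* `conj_ratio_injective`: `σ ↦ Λ / σ Λ` separates automorphisms up to Galois conjugation.
* `components`: decomposition of an additive subgroup stable under a diagonal multiplication.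
-/

namespace Cfsg.Agent.SuzukiTwo

theorem exists_field_coord {K A : Type*} [Group K] [AddCommGroup A] [Finite A] [Finite K]
    [IsCyclic K] (φ : K →* AddMonoid.End A) (h2 : ∀ a : A, a + a = 0)
    (hne : ∃ a b : A, a ≠ 0 ∧ b ≠ 0 ∧ a ≠ b)
    (htrans : ∀ a b : A, a ≠ 0 → b ≠ 0 → ∃! k, φ k a = b) :
    ∃ m : ℕ, 2 ≤ m ∧ Nat.card A = 2 ^ m ∧
      ∃ (ι : A ≃+ GaloisField 2 m) (lam : K →* (GaloisField 2 m)ˣ), Function.Bijective lam ∧
        ∀ k a, ι (φ k a) = lam k * ι a := by
  classical
  obtain ⟨a0, b0, ha0, hb0, hab⟩ := hne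
  obtain ⟨g, hg⟩ := IsCyclic.exists_generator (α := K)
  let E : Subring (AddMonoid.End A) := Subring.closure {φ g}
  have hφE : ∀ k, φ k ∈ E := by
    intro k
    obtain ⟨n, rfl⟩ := (mem_powers_iff_mem_zpowers.2 (hg k) :)
    simp only [map_pow]
    exact pow_mem (Subring.subset_closure (Set.mem_singleton _)) n
  have hc1 : E ≤ Subring.centralizer {φ g} := by
    refine Subring.closure_le.2 ?_
    rintro x rfl
    exact Subring.mem_centralizer_iff.2 (by rintro y rfl; rfl)
  have hc2 : ∀ e ∈ E, ∀ f ∈ E, e * f = f * e := by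
    have : E ≤ Subring.centralizer (E : Set (AddMonoid.End A)) := by
      refine Subring.closure_le.2 ?_
      rintro x rfl
      exact Subring.mem_centralizer_iff.2 fun y hy =>
        (Subring.mem_centralizer_iff.1 (hc1 hy) _ rfl).symm
    intro e he f hf
    exact (Subring.mem_centralizer_iff.1 (this he) f hf).symm
  have hker : ∀ e ∈ E, ∀ a : A, a ≠ 0 → e a = 0 → e = 0 := by
    intro e he a ha h0
    refine AddMonoidHom.ext fun b => ?_
    change e b = 0
    by_cases hb : b = 0
    · rw [hb, map_zero]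
    obtain ⟨k, hk, -⟩ := htrans a b ha hb
    rw [← hk]
    change (e * φ k) a = 0
    rw [hc2 e he _ (hφE k)]
    change φ k (e a) = 0
    rw [h0, map_zero]
  let instE : CommRing E :=
    { (inferInstance : Ring E) with
      mul_comm := fun x y => Subtype.ext (hc2 x x.2 y y.2) }
  have : Nontrivial E := ⟨⟨0, 1, fun h => ha0 (by
    have := congrArg (fun e : E => (e : AddMonoid.End A) a0) h
    exact this.symm)⟩⟩
  have : NoZeroDivisors E := ⟨fun {e f} h => by
    rcases em (f = 0) with hf | hf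
    · exact Or.inr hf
    refine Or.inl (Subtype.ext (hker e e.2 ((f : AddMonoid.End A) a0) ?_ ?_))
    · exact fun h0 => hf (Subtype.ext (hker f f.2 a0 ha0 h0))
    · exact congrArg (fun x : E => (x : AddMonoid.End A) a0) h⟩
  have : IsDomain E := NoZeroDivisors.to_isDomain _
  have : Finite (AddMonoid.End A) :=
    Finite.of_injective (fun f => (f : A → A)) DFunLike.coe_injective
  let : Fintype E := Fintype.ofFinite E
  let : Field E := Fintype.fieldOfDomain E
  let ev : E →+ A :=
    { toFun := fun e => (e : AddMonoid.End A) a0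
      map_zero' := rfl
      map_add' := fun _ _ => rfl }
  have hinj : Function.Injective ev := by
    refine (injective_iff_map_eq_zero ev).2 fun e h => Subtype.ext ?_
    exact hker e e.2 a0 ha0 h
  have hsurj : Function.Surjective ev := by
    intro a
    by_cases ha : a = 0
    · exact ⟨0, ha.symm⟩
    obtain ⟨k, hk, -⟩ := htrans a0 a ha0 ha
    exact ⟨⟨φ k, hφE k⟩, hk⟩
  let evE : E ≃+ A := AddEquiv.ofBijective ev ⟨hinj, hsurj⟩
  have : CharP E 2 := CharTwo.of_one_ne_zero_of_two_eq_zero one_ne_zero (by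
    rw [← one_add_one_eq_two]
    exact hinj ((map_add ev 1 1).trans ((h2 _).trans (map_zero ev).symm)))
  obtain ⟨n, -, hn⟩ := FiniteField.card E 2
  have hA : Nat.card A = 2 ^ (n : ℕ) := by
    rw [← Nat.card_congr evE.toEquiv, Nat.card_eq_fintype_card, hn]
  have hn2 : 2 ≤ (n : ℕ) := by
    by_contra hlt
    have hn1 : (n : ℕ) = 1 := by have := n.pos; omega
    have h3 : 3 ≤ Nat.card A := by
      let _ := Fintype.ofFinite A
      rw [Nat.card_eq_fintype_card]
      calc 3 = ({0, a0, b0} : Finset A).card := by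
            rw [Finset.card_insert_of_notMem, Finset.card_pair hab]
            simp [ha0.symm, hb0.symm]
        _ ≤ _ := Finset.card_le_univ _
    rw [hA, hn1] at h3
    omega
  refine ⟨n, hn2, hA, ?_⟩
  let _ := Fintype.ofFinite (GaloisField 2 n)
  let R : E ≃+* GaloisField 2 n := FiniteField.ringEquivOfCardEq (by
    rw [hn, ← Nat.card_eq_fintype_card, GaloisField.card 2 n (by omega)])
  let χ : K →* GaloisField 2 n :=
    { toFun := fun k => R ⟨φ k, hφE k⟩
      map_one' := by
        rw [← map_one R]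
        exact congrArg R (Subtype.ext (map_one φ))
      map_mul' := fun x y => by
        rw [← map_mul R]
        exact congrArg R (Subtype.ext (map_mul φ x y)) }
  let ι : A ≃+ GaloisField 2 n := evE.symm.trans R.toAddEquiv
  have hι : ∀ k a, ι (φ k a) = χ.toHomUnits k * ι a := by
    intro k a
    change R (evE.symm (φ k a)) = R ⟨φ k, hφE k⟩ * R (evE.symm a)
    rw [← map_mul R]
    congr 1
    rw [AddEquiv.symm_apply_eq]
    exact (congrArg (φ k) (evE.apply_symm_apply a)).symm
  refine ⟨ι, χ.toHomUnits, ⟨?_, ?_⟩, hι⟩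
  · intro k k' h
    refine (htrans a0 (φ k' a0) ha0 ?_).unique (ι.injective ?_) rfl
    · intro h0
      have := hι k' a0
      rw [h0, map_zero] at this
      exact mul_ne_zero (Units.ne_zero _) (fun h1 => ha0 (ι.injective (h1.trans (map_zero ι).symm)))
        this.symm
    · rw [hι, hι, h]
  · intro u
    have h1 : ι.symm 1 ≠ 0 := fun h => one_ne_zero (α := GaloisField 2 n)
      (by rw [← ι.apply_symm_apply 1, h, map_zero])
    have h3 : ι.symm (u : GaloisField 2 n) ≠ 0 := fun h => u.ne_zero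
      (by rw [← ι.apply_symm_apply (u : GaloisField 2 n), h, map_zero])
    obtain ⟨k, hk, -⟩ := htrans _ _ h1 h3
    refine ⟨k, Units.ext ?_⟩
    have := hι k (ι.symm 1)
    rw [hk, ι.apply_symm_apply, ι.apply_symm_apply, mul_one] at this
    exact this.symm

/-- Hua's lemma. -/
theorem hua {F : Type*} [Field F] [Finite F] [CharP F 2] (B : F → F → F)
    (hl : ∀ x x' y, B (x + x') y = B x y + B x' y) (hr : ∀ x y y', B x (y + y') = B x y + B x y')
    (hmul : ∀ c x y : F, c ≠ 0 → B (c * x) (c * y) = c * B x y) (halt : ∀ x, B x x = 0) :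
    ∀ x y, B x y = 0 := by
  have hsym : ∀ x y, B x y = B y x := by
    intro x y
    have := halt (x + y)
    rw [hl, hr, hr, halt, halt, zero_add, add_zero] at this
    exact CharTwo.add_eq_zero.1 this
  set h : F → F := B 1 with hh
  have hadd : ∀ a b, h (a + b) = h a + h b := hr 1
  have h0 : h 0 = 0 := by simpa using hadd 0 0
  have h1 : h 1 = 0 := halt 1
  have hinv : ∀ r : F, r ≠ 0 → h r⁻¹ = r⁻¹ * h r := by
    intro r hr0
    have := hmul r⁻¹ r 1 (inv_ne_zero hr0)
    rw [inv_mul_cancel₀ hr0, mul_one, hsym r 1] at this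
    exact this
  have hsq : ∀ r : F, h (r ^ 2) = 0 := by
    intro r
    by_cases hr0 : r = 0
    · simp [hr0, h0]
    by_cases hr1 : r = 1
    · simp [hr1, h1]
    have hr1' : r + 1 ≠ 0 := fun e => hr1 (CharTwo.add_eq_zero.1 e)
    have hs : r ^ 2 + r ≠ 0 := by
      rw [show r ^ 2 + r = r * (r + 1) by ring]
      exact mul_ne_zero hr0 hr1'
    have hkey : (r ^ 2 + r)⁻¹ = r⁻¹ + (r + 1)⁻¹ := by
      have e : (r + 1) + r = 1 := by
        rw [add_comm r 1, add_assoc, CharTwo.add_self_eq_zero, add_zero]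
      rw [inv_add_inv hr0 hr1', show r * (r + 1) = r ^ 2 + r by ring, add_comm r (r + 1), e,
        one_div]
    have e1 : h (r ^ 2 + r)⁻¹ = (r ^ 2 + r)⁻¹ * h r := by
      rw [hkey, hadd, hinv r hr0, hinv _ hr1', hadd, h1, add_zero, add_mul]
    rw [hinv _ hs, hadd, mul_add] at e1
    have e2 : (r ^ 2 + r)⁻¹ * h (r ^ 2) = 0 := add_eq_right.1 e1
    exact (mul_eq_zero.1 e2).resolve_left (inv_ne_zero hs)
  have hzero : ∀ r : F, h r = 0 := by
    intro r
    obtain ⟨s, hs⟩ := FiniteField.isSquare_of_char_two (ringChar.eq F 2) r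
    rw [hs, ← pow_two]
    exact hsq s
  intro x y
  by_cases hx : x = 0
  · have := hl 0 0 y
    rw [hx]
    simpa using this
  have := hmul x 1 (x⁻¹ * y) hx
  rwa [mul_one, mul_inv_cancel_left₀ hx, ← hh, hzero, mul_zero] at this

theorem exists_frobenius_pow {F : Type*} [Field F] [Fintype F] [CharP F 2] {m : ℕ}
    (hF : Fintype.card F = 2 ^ m) (σ : F ≃+* F) :
    ∃ l < m, ∀ x, σ x = x ^ (2 ^ l) := by
  have : Fact (Nat.Prime 2) := ⟨Nat.prime_two⟩
  let : Algebra (ZMod 2) F := ZMod.algebra F 2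
  have hm : Module.finrank (ZMod 2) F = m := by
    have := Module.card_eq_pow_finrank (K := ZMod 2) (V := F)
    rw [ZMod.card, hF] at this
    exact (Nat.pow_right_injective le_rfl this).symm
  let σa : F ≃ₐ[ZMod 2] F := AlgEquiv.ofRingEquiv (f := σ) (fun c => by
    exact RingHom.congr_fun (Subsingleton.elim ((σ : F →+* F).comp (algebraMap (ZMod 2) F))
      (algebraMap (ZMod 2) F)) c)
  obtain ⟨l, hl⟩ := (FiniteField.bijective_frobeniusAlgEquivOfAlgebraic_pow (ZMod 2) F).2 σa
  refine ⟨l, hm ▸ l.2, fun x => ?_⟩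
  have := DFunLike.congr_fun hl x
  rw [AlgEquiv.coe_pow, FiniteField.coe_frobeniusAlgEquivOfAlgebraic_iterate, ZMod.card] at this
  exact this.symm

/-- `σ` is determined up to equality by the conjugacy class of `Λ / σ Λ`. -/
theorem conj_ratio_injective {F : Type*} [Field F] [Fintype F] [CharP F 2] (Λ : Fˣ)
    (hΛ : ∀ x : Fˣ, x ∈ Subgroup.zpowers Λ) (σ τ : F ≃+* F)
    (h : ∃ ρ : F ≃+* F, ρ ((Λ : F) / τ Λ) = (Λ : F) / σ Λ) : σ = τ := by
  classical
  have gen : ∀ {a b : F ≃+* F}, a Λ = b Λ → a = b := by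
    intro a b hab
    refine RingEquiv.ext fun x => ?_
    by_cases hx : x = 0
    · simp [hx]
    obtain ⟨n, hn⟩ := (mem_powers_iff_mem_zpowers.2 (hΛ (Units.mk0 x hx)) :)
    have : x = (Λ : F) ^ n := by
      rw [← Units.val_pow_eq_pow_val]
      exact (congrArg Units.val hn).symm
    rw [this, map_pow, map_pow, hab]
  obtain ⟨ρ, hρ⟩ := h
  obtain ⟨m, -, hm⟩ := FiniteField.card F 2
  obtain ⟨l, hl, hσ⟩ := exists_frobenius_pow hm σ
  obtain ⟨l', hl', hτ⟩ := exists_frobenius_pow hm τ
  obtain ⟨r, hr, hρ'⟩ := exists_frobenius_pow hm ρ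
  refine gen ?_
  have hne : ∀ a : F ≃+* F, a (Λ : F) ≠ 0 := fun a => (map_ne_zero a).2 Λ.ne_zero
  have hratio : ∀ a : F ≃+* F, (Λ : F) / a Λ = 1 → a = RingEquiv.refl F := fun a ha =>
    gen ((div_eq_one_iff_eq (hne a)).1 ha).symm
  by_cases hl0 : l = 0
  · have e : σ (Λ : F) = Λ := by rw [hσ, hl0]; simp
    rw [e, div_self Λ.ne_zero] at hρ
    rw [e, hratio τ (ρ.injective (hρ.trans (map_one ρ).symm))]
    rfl
  by_cases hl'0 : l' = 0
  · have e : τ (Λ : F) = Λ := by rw [hτ, hl'0]; simp
    rw [e, div_self Λ.ne_zero, map_one] at hρ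
    rw [e, hratio σ hρ.symm]
    rfl
  set u := (l' + r) % (m : ℕ) with hu
  have hfix : ∀ (x : F) (j : ℕ), x ^ 2 ^ j = x ^ 2 ^ (j % (m : ℕ)) := by
    intro x j
    conv_lhs => rw [← Nat.div_add_mod j m, pow_add, pow_mul x, pow_mul]
    rw [← hm, FiniteField.pow_card_pow]
  have heq : Λ ^ (1 + 2 ^ u) = Λ ^ (2 ^ r + 2 ^ l) := by
    rw [pow_add, pow_add, pow_one]
    ext
    push_cast
    rw [map_div₀, div_eq_div_iff ((map_ne_zero ρ).2 (hne τ)) (hne σ)] at hρ
    rw [hρ', hρ', hσ, hτ, ← pow_mul, ← pow_add 2, hfix _ (l' + r), ← hu] at hρ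
    exact hρ.symm
  have hord : orderOf Λ = 2 ^ (m : ℕ) - 1 := by
    rw [orderOf_eq_card_of_forall_mem_zpowers hΛ, Nat.card_units, Nat.card_eq_fintype_card, hm]
  have hmod : 1 + 2 ^ u ≡ 2 ^ r + 2 ^ l [MOD 2 ^ (m : ℕ) - 1] := hord ▸ pow_eq_pow_iff_modEq.1 heq
  have hm0 : 0 < (m : ℕ) := m.pos
  have hu' : u < (m : ℕ) := Nat.mod_lt _ hm0
  have hb : ∀ i : ℕ, i < m → 1 ≤ 2 ^ i ∧ 2 * 2 ^ i ≤ 2 ^ (m : ℕ) := fun i hi =>
    ⟨Nat.one_le_two_pow, by rw [← pow_succ']; exact Nat.pow_le_pow_right (by norm_num) hi⟩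
  have hev : ∀ i : ℕ, i ≠ 0 → 2 ∣ 2 ^ i := fun i hi => dvd_pow_self 2 hi
  have hEq : 1 + 2 ^ u = 2 ^ r + 2 ^ l := by
    have a1 := hb u hu'
    have a2 := hb r hr
    have a3 := hb l hl
    have a4 : 2 ≤ 2 ^ l := Nat.le_self_pow hl0 2 |>.trans' le_rfl
    rcases le_total (1 + 2 ^ u) (2 ^ r + 2 ^ l) with hle | hle
    · by_contra hc
      have := Nat.le_of_dvd (by omega) ((Nat.modEq_iff_dvd' hle).1 hmod)
      omega
    · by_contra hc
      have := Nat.le_of_dvd (by omega) ((Nat.modEq_iff_dvd' hle).1 hmod.symm)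
      omega
  have hru : u ≠ r := by
    intro e
    rw [hu] at e
    have : (l' + r) % (m : ℕ) = (0 + r) % (m : ℕ) := by rw [e, zero_add, Nat.mod_eq_of_lt hr]
    have := Nat.ModEq.add_right_cancel' r this
    rw [Nat.ModEq, Nat.mod_eq_of_lt hl', Nat.zero_mod] at this
    exact hl'0 this
  have h2l := hev l hl0
  by_cases hu0 : u = 0
  · have hr0 : r ≠ 0 := fun e => hru (hu0.trans e.symm)
    have := Nat.one_lt_two_pow hr0
    have := Nat.one_lt_two_pow hl0
    rw [hu0] at hEq
    omega
  · have h2u := hev u hu0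
    have hr0 : r = 0 := by
      by_contra hr0
      have := hev r hr0
      omega
    have hul : u = l := by
      rw [hr0, pow_zero] at hEq
      exact Nat.pow_right_injective le_rfl (Nat.add_left_cancel hEq)
    rw [hu, hr0, Nat.add_zero, Nat.mod_eq_of_lt hl'] at hul
    rw [hσ, hτ, hul]

/-- An additive subgroup of a power of `F` stable under multiplication by a family of pairwise
non-conjugate scalars contains all components of its elements. -/
theorem components {F : Type*} [Field F] [Fintype F] [CharP F 2] {J : Type*} [Fintype J]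
    [DecidableEq J] (ev : J → F) (hev : ∀ i j, (∃ ρ : F ≃+* F, ρ (ev j) = ev i) → i = j)
    (H : AddSubgroup (J → F)) (hH : ∀ h ∈ H, (fun j => ev j * h j) ∈ H) {h : J → F} (hh : h ∈ H)
    (i : J) : Pi.single i (h i) ∈ H := by
  classical
  have : Fact (Nat.Prime 2) := ⟨Nat.prime_two⟩
  let : Algebra (ZMod 2) F := ZMod.algebra F 2
  have key : ∀ p : Polynomial (ZMod 2), ∀ h ∈ H,
      (fun j => Polynomial.aeval (ev j) p * h j) ∈ H := by
    intro p
    induction p using Polynomial.induction_on with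
    | C a =>
      intro h hh
      obtain ⟨n, rfl⟩ := ZMod.natCast_zmod_surjective a
      convert H.nsmul_mem hh n using 1
      funext j
      simp
    | add p q hp hq =>
      intro h hh
      convert H.add_mem (hp h hh) (hq h hh) using 1
      funext j
      simp [add_mul]
    | monomial n a hp =>
      intro h hh
      convert hp _ (hH h hh) using 1
      funext j
      simp [pow_succ, mul_assoc]
  set p : Polynomial (ZMod 2) :=
    (∏ j ∈ Finset.univ.erase i, minpoly (ZMod 2) (ev j)) ^ (Fintype.card F - 1) with hp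
  have hq : Fintype.card F - 1 ≠ 0 := by
    have := Fintype.one_lt_card (α := F)
    omega
  convert key p h hh using 1
  funext j
  by_cases hji : j = i
  · subst hji
    rw [Pi.single_eq_same, hp, map_pow, FiniteField.pow_card_sub_one_eq_one, one_mul]
    rw [map_prod, Finset.prod_ne_zero_iff]
    intro k hk h0
    obtain ⟨σ, hσ⟩ := minpoly.exists_algEquiv_of_root' (K := ZMod 2)
      (IsIntegral.of_finite (ZMod 2) (ev k)).isAlgebraic h0
    exact Finset.ne_of_mem_erase hk (hev j k ⟨σ.toRingEquiv, hσ⟩).symm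
  · rw [Pi.single_eq_of_ne hji, hp, map_pow, map_prod, Finset.prod_eq_zero
      (Finset.mem_erase.2 ⟨hji, Finset.mem_univ j⟩) (minpoly.aeval _ _), zero_pow hq, zero_mul]

end Cfsg.Agent.SuzukiTwo
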