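import Cfsg.Agent.Lib.Sz.Sylow
import Cfsg.Agent.Lib.Sz.Aut
import Cfsg.Agent.Lib.PCore.Basic
import Cfsg.Agent.S1140
import Cfsg.Prelude.Def_Transfer

/-!
# The automorphism group of the Suzuki 2-group of type `A` with `θ ^ 2` the Frobenius map

`S` is any group with a parametrisation by `F × F` in which the product is
`(a, b) (c, d) = (a + c, b + d + θ a * c)`.
-/

set_option autoImplicit false
set_option linter.style.haveILetI false

namespace Cfsg.Agent.SuzukiTwo.AutA

open Cfsg Cfsg.Agent.SZ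

variable {F : Type*} [Field F] [Fintype F] {m : ℕ}

/-- `θ` as a field automorphism. -/
noncomputable def τ (hF : Fintype.card F = 2 ^ (2 * m + 1)) : F ≃+* F :=
  RingEquiv.ofBijective
    ({ toFun := th m
       map_one' := th_one
       map_mul' := th_mul
       map_zero' := th_zero
       map_add' := th_add hF } : F →+* F)
    (Finite.injective_iff_bijective.1 fun _ _ h => th_inj hF h)

theorem τ_apply (hF : Fintype.card F = 2 ^ (2 * m + 1)) (x : F) : τ hF x = th m x := rfl

theorem exists_ne_zero_ne_one (hm : 1 ≤ m) (hF : Fintype.card F = 2 ^ (2 * m + 1)) :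
    ∃ x : F, x ≠ 0 ∧ x ≠ 1 ∧ x ^ 2 ≠ x ∧ x ^ 4 ≠ x := by
  classical
  by_contra hcon
  push Not at hcon
  have h4 : ∀ x : F, x ^ 4 = x := by
    intro x
    by_cases h0 : x = 0
    · simp [h0]
    by_cases h1 : x = 1
    · simp [h1]
    by_cases h2 : x ^ 2 = x
    · rw [show 4 = 2 * 2 from rfl, pow_mul, h2, h2]
    exact hcon x h0 h1 h2
  have hle : Fintype.card F ≤ 4 := by
    open Polynomial in
    have hp : (X ^ 4 - X : F[X]) ≠ 0 := by
      intro e
      simpa [Polynomial.coeff_X] using congrArg (fun p => p.coeff 4) e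
    have hsub : (Finset.univ : Finset F) ⊆ (X ^ 4 - X : F[X]).roots.toFinset := fun x _ => by
      simp [mem_roots hp, h4 x]
    refine (Finset.card_le_card hsub).trans ((Multiset.toFinset_card_le _).trans ?_)
    refine (card_roots' _).trans ?_
    compute_degree
  have : 2 ^ 3 ≤ Fintype.card F := hF ▸ Nat.pow_le_pow_right two_pos (by omega)
  omega

theorem exists_add_eq (hF : Fintype.card F = 2 ^ (2 * m + 1)) (y : F) : ∃ a : F, th m a * a = y := by
  have hinj : Function.Injective (fun a : F => th m a * a) := by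
    intro a b h
    simp only at h
    by_cases hb : b = 0
    · subst hb
      by_contra ha
      simp at h
      exact ha (h.elim th_eq_zero.1 id)
    have ha : a ≠ 0 := fun e => by simp [e, hb, th_eq_zero] at h
    have hx : th m (a / b) * (a / b) = 1 := by
      have htb : th m b ≠ 0 := fun e => hb (th_eq_zero.1 e)
      rw [th_div, div_mul_div_comm, h, div_self (mul_ne_zero htb hb)]
    set x := a / b with hxd
    have h2 := congrArg (th m) hx
    rw [th_mul, th_th hF, th_one] at h2
    have hx1 : x = 1 := by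
      calc x = x * (th m x * x) := by rw [hx, mul_one]
        _ = x ^ 2 * th m x := by ring
        _ = 1 := h2
    exact (div_eq_one_iff_eq hb).1 hx1
  exact (Finite.injective_iff_bijective.1 hinj).2 y

/-- A function given as a combination of field automorphisms vanishes only trivially. -/
theorem eq_zero_of_sum_apply [CharP F 2] (c : (F ≃+* F) → F) [Fintype (F ≃+* F)]
    (h : ∀ x : F, ∑ σ, c σ * σ x = 0) : c = 0 := by
  funext σ
  have hli := (Cfsg.Agent.S1140.result (F := F)).1
  refine Fintype.linearIndependent_iff.1 hli c ?_ σ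
  funext x
  simp only [Finset.sum_apply, Pi.smul_apply, smul_eq_mul, Pi.zero_apply]
  exact h x

theorem exists_coeff [CharP F 2] [Fintype (F ≃+* F)] (f : F →+ F) :
    ∃ c : (F ≃+* F) → F, ∀ x : F, f x = ∑ σ, c σ * σ x := by
  classical
  obtain ⟨s, c, h⟩ := (Cfsg.Agent.S1140.result (F := F)).2.1 f
  exact ⟨fun σ => if σ ∈ s then c σ else 0, fun x => by rw [h x]; simp [ite_mul, Finset.sum_ite_mem]⟩

/-- A quadratic combination of automorphisms which vanishes has vanishing symmetrisation and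
diagonal. -/
theorem quad_eq_zero [CharP F 2] [Fintype (F ≃+* F)] (M : (F ≃+* F) → (F ≃+* F) → F)
    (h : ∀ a : F, ∑ u, ∑ v, M u v * (u a * v a) = 0) :
    (∀ u v, M u v + M v u = 0) ∧ ∀ u, M u u = 0 := by
  classical
  have hpol : ∀ a b : F, ∑ u, (∑ v, (M u v + M v u) * v b) * u a = 0 := by
    intro a b
    have h1 : ∑ u, ∑ v, (M u v * (u a * v b) + M u v * (u b * v a)) = 0 := by
      have e : ∑ u, ∑ v, (M u v * (u a * v b) + M u v * (u b * v a)) =
          ∑ u, ∑ v, M u v * (u (a + b) * v (a + b)) - ∑ u, ∑ v, M u v * (u a * v a) -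
            ∑ u, ∑ v, M u v * (u b * v b) := by
        simp only [← Finset.sum_sub_distrib, map_add]
        exact Finset.sum_congr rfl fun u _ => Finset.sum_congr rfl fun v _ => by ring
      rw [e, h, h, h, sub_zero, sub_zero]
    simp only [Finset.sum_add_distrib] at h1
    rw [Finset.sum_comm (f := fun u v => M u v * (u b * v a)), ← Finset.sum_add_distrib] at h1
    rw [← h1]
    refine Finset.sum_congr rfl fun u _ => ?_
    rw [Finset.sum_mul, ← Finset.sum_add_distrib]
    exact Finset.sum_congr rfl fun v _ => by ring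
  have hsym : ∀ u v, M u v + M v u = 0 := by
    intro u v
    have h2 : ∀ b : F, ∑ v, (M u v + M v u) * v b = 0 := fun b =>
      congrFun (eq_zero_of_sum_apply (fun u => ∑ v, (M u v + M v u) * v b) (hpol · b)) u
    exact congrFun (eq_zero_of_sum_apply (fun v => M u v + M v u) h2) v
  refine ⟨hsym, fun u => ?_⟩
  have hd : ∀ y : F, ∑ u, M u u * u y = 0 := by
    intro y
    obtain ⟨a, rfl⟩ : ∃ a : F, a ^ 2 = y :=
      (frobeniusEquiv F 2).surjective y
    have h1 := h a
    rw [← Fintype.sum_prod_type'] at h1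
    rw [← Finset.sum_filter_add_sum_filter_not Finset.univ (fun p => p.1 = p.2)] at h1
    have hoff : ∑ p ∈ Finset.univ.filter (fun p : (F ≃+* F) × (F ≃+* F) => ¬ p.1 = p.2),
        M p.1 p.2 * (p.1 a * p.2 a) = 0 := by
      refine Finset.sum_involution (fun p _ => (p.2, p.1)) ?_ ?_ ?_ ?_
      · intro p _
        have := hsym p.1 p.2
        linear_combination (p.1 a * p.2 a) * this
      · intro p hp _ e
        simp only [Finset.mem_filter] at hp
        exact hp.2 (congrArg Prod.fst e).symm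
      · intro p hp
        simp only [Finset.mem_filter, Finset.mem_univ, true_and] at hp ⊢
        exact Ne.symm hp
      · intro p _
        rfl
    rw [hoff, add_zero] at h1
    rw [← h1]
    refine Finset.sum_bij (fun u _ => (u, u)) (by simp) (by simp) ?_ ?_
    · intro p hp
      simp only [Finset.mem_filter] at hp
      exact ⟨p.1, Finset.mem_univ _, Prod.ext rfl hp.2⟩
    · intro u _
      rw [map_pow]
      ring
  exact congrFun (eq_zero_of_sum_apply (fun u => M u u) hd) u

theorem semilinear_of_quad (hm : 1 ≤ m) (hF : Fintype.card F = 2 ^ (2 * m + 1))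
    (g h : F →+ F) (hg : ∃ a, g a ≠ 0) (hq : ∀ a, h (th m a * a) = th m (g a) * g a) :
    ∃ (σ : F ≃+* F) (c : F), c ≠ 0 ∧ (∀ a, g a = c * σ a) ∧ ∀ b, h b = th m c * c * σ b := by
  classical
  haveI := charTwo hF
  haveI : Finite (F ≃+* F) := Finite.of_injective _ DFunLike.coe_injective
  letI := Fintype.ofFinite (F ≃+* F)
  obtain ⟨c, hc⟩ := exists_coeff g
  obtain ⟨d, hd⟩ := exists_coeff h
  obtain ⟨x, hx0, hx1, hx2, hx4⟩ := exists_ne_zero_ne_one hm hF
  set t := τ hF with ht
  let M : (F ≃+* F) → (F ≃+* F) → F := fun u v =>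
    t (c (t⁻¹ * u)) * c v + if u = v * t then d v else 0
  have hM : ∀ a : F, ∑ u, ∑ v, M u v * (u a * v a) = 0 := by
    intro a
    have e1 : th m (g a) * g a = ∑ u, ∑ v, t (c (t⁻¹ * u)) * c v * (u a * v a) := by
      rw [← τ_apply hF, ← ht, hc a, map_sum,
        ← Equiv.sum_comp (Equiv.mulLeft t⁻¹) (fun s => t (c s * s a)), Finset.sum_mul]
      refine Finset.sum_congr rfl fun u _ => ?_
      rw [Finset.mul_sum]
      refine Finset.sum_congr rfl fun v _ => ?_
      have hu : t ((t⁻¹ * u) a) = u a := by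
        show (t * (t⁻¹ * u)) a = u a
        rw [mul_inv_cancel_left]
      rw [Equiv.coe_mulLeft, map_mul, hu]
      ring
    have e2 : h (th m a * a) =
        ∑ u, ∑ v, (if u = v * t then d v else 0) * (u a * v a) := by
      rw [Finset.sum_comm, hd]
      refine Finset.sum_congr rfl fun v _ => ?_
      simp only [ite_mul, zero_mul, Finset.sum_ite_eq', Finset.mem_univ, if_true]
      rw [map_mul]
      rfl
    simp only [M, add_mul, Finset.sum_add_distrib]
    rw [← e1, ← e2, hq, CharTwo.add_self_eq_zero]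
  obtain ⟨hsym, hdiag⟩ := quad_eq_zero M hM
  have htne : t ≠ 1 := fun e => by
    have h1 : th m x = x := DFunLike.congr_fun e x
    exact hx1 (th_eq_self hF h1 hx0)
  have htne' : t * t * (t * t) ≠ 1 := fun e => by
    have h1 := DFunLike.congr_fun e x
    refine hx4 ?_
    calc x ^ 4 = th m (th m (th m (th m x))) := by rw [th_th hF, th_th hF]; ring
      _ = x := h1
  have hI : ∀ s, c s ≠ 0 → c (t * s) = 0 := by
    intro s hs
    have := hdiag (t * s)
    simp only [M] at this
    have hne : t * s ≠ t * s * t := fun e => htne (mul_eq_left.1 e.symm)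
    rw [if_neg hne, add_zero, inv_mul_cancel_left, mul_eq_zero] at this
    exact this.resolve_left (by simpa using hs)
  have hcomm : ∀ s : F ≃+* F, s * t = t * s := fun s => by
    ext y
    show s (th m y) = th m (s y)
    rw [th, th, map_pow]
  have hII : ∀ s r, c s ≠ 0 → c r ≠ 0 → s ≠ r → r = t * t * s := by
    intro s r hs hr hsr
    by_contra hne
    have hv : t * s ≠ r := fun e => hr (e ▸ hI s hs)
    have h1 := hsym (t * s) r
    simp only [M] at h1
    have hn1 : t * s ≠ r * t := fun e => hsr (mul_left_cancel (e.trans (hcomm r)))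
    have hn2 : r ≠ t * s * t := fun e => hne (by rw [e, hcomm (t * s), mul_assoc])
    rw [if_neg hn1, if_neg hn2, add_zero, add_zero, inv_mul_cancel_left, hI s hs, mul_zero,
      add_zero, mul_eq_zero] at h1
    exact h1.elim (by simpa using hs) hr
  obtain ⟨σ, hσ⟩ : ∃ s, c s ≠ 0 := by
    by_contra hall
    push Not at hall
    obtain ⟨a, ha⟩ := hg
    exact ha (by rw [hc a]; simp [hall])
  have huniq : ∀ r, r ≠ σ → c r = 0 := by
    intro r hr
    by_contra hcr
    have h1 := hII σ r hσ hcr (Ne.symm hr)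
    have h2 := hII r σ hcr hσ hr
    rw [h1, ← mul_assoc] at h2
    exact htne' (mul_eq_right.1 h2.symm)
  have hga : ∀ a, g a = c σ * σ a := fun a => by
    rw [hc a]
    exact Finset.sum_eq_single σ (fun r _ hr => by rw [huniq r hr, zero_mul])
      (fun h => absurd (Finset.mem_univ _) h)
  refine ⟨σ, c σ, hσ, hga, fun b => ?_⟩
  obtain ⟨a, rfl⟩ := exists_add_eq hF b
  rw [hq, hga, th_mul, map_mul, show σ (th m a) = th m (σ a) by rw [th, th, map_pow]]
  ring

section Aut

variable {S : Type*} [Group S] (e : F × F ≃ S)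
  (hmul : ∀ p q : F × F, e p * e q = e (p.1 + q.1, p.2 + q.2 + th m p.1 * q.1))

include hmul

theorem e_one (hF : Fintype.card F = 2 ^ (2 * m + 1)) : e (0, 0) = 1 :=
  (mul_eq_left (a := e (0, 0))).1 (by rw [hmul]; simp)

theorem eq_comm_iff {a b : F} (hm : 1 ≤ m) (hF : Fintype.card F = 2 ^ (2 * m + 1)) :
    (∀ s, s * e (a, b) = e (a, b) * s) ↔ a = 0 := by
  constructor
  · intro h
    by_contra ha
    have hc : ∀ c : F, th m c * a = th m a * c := fun c => by
      have := e.injective ((hmul _ _).symm.trans ((h (e (c, 0))).trans (hmul _ _)))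
      have h2 := (Prod.ext_iff.1 this).2
      simpa [add_comm] using h2
    have h1 := hc 1
    rw [th_one, one_mul, mul_one] at h1
    obtain ⟨x, hx0, hx1, -, -⟩ := exists_ne_zero_ne_one hm hF
    have h2 := hc x
    rw [← h1, mul_comm a] at h2
    exact hx1 (th_eq_self hF (mul_right_cancel₀ ha h2) hx0)
  · rintro rfl s
    obtain ⟨⟨c, d⟩, rfl⟩ := e.surjective s
    rw [hmul, hmul]
    simp [add_comm, th_zero]

/-- The shape of every automorphism. -/
theorem exists_shape (hm : 1 ≤ m) (hF : Fintype.card F = 2 ^ (2 * m + 1)) (φ : MulAut S) :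
    ∃ (σ : F ≃+* F) (c : F) (k : F →+ F), c ≠ 0 ∧
      ∀ a b, φ (e (a, b)) = e (c * σ a, k a + th m c * c * σ b) := by
  let g₀ : F → F := fun a => (e.symm (φ (e (a, 0)))).1
  let k₀ : F → F := fun a => (e.symm (φ (e (a, 0)))).2
  let h₀ : F → F := fun b => (e.symm (φ (e (0, b)))).2
  have ha : ∀ a, φ (e (a, 0)) = e (g₀ a, k₀ a) := fun a => (e.apply_symm_apply _).symm
  have hb : ∀ b, φ (e (0, b)) = e (0, h₀ b) := by
    intro b
    obtain ⟨⟨u, v⟩, huv⟩ := e.surjective (φ (e (0, b)))
    have hu : u = 0 := (eq_comm_iff e hmul hm hF (b := v)).1 fun s => by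
      obtain ⟨s, rfl⟩ := φ.surjective s
      rw [huv, ← map_mul, ← map_mul, (eq_comm_iff e hmul hm hF).2 rfl s]
    subst hu
    simp [h₀, ← huv]
  have hab : ∀ a b, φ (e (a, b)) = e (g₀ a, k₀ a + h₀ b) := by
    intro a b
    have h1 : e (a, b) = e (a, 0) * e (0, b) := by rw [hmul]; simp
    rw [h1, map_mul, ha, hb, hmul]
    simp
  have hprod : ∀ a c : F, g₀ (a + c) = g₀ a + g₀ c ∧
      k₀ (a + c) + h₀ (th m a * c) = k₀ a + k₀ c + th m (g₀ a) * g₀ c := by
    intro a c
    have h1 : φ (e (a, 0)) * φ (e (c, 0)) = φ (e (a + c, th m a * c)) := by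
      rw [← map_mul, hmul]
      simp
    rw [ha, ha, hab, hmul] at h1
    have h2 := Prod.ext_iff.1 (e.injective h1)
    exact ⟨h2.1.symm, h2.2.symm⟩
  have hh : ∀ b d : F, h₀ (b + d) = h₀ b + h₀ d := by
    intro b d
    have h1 : φ (e (0, b)) * φ (e (0, d)) = φ (e (0, b + d)) := by
      rw [← map_mul, hmul]
      simp [th_zero]
    rw [hb, hb, hb, hmul] at h1
    have h2 := (Prod.ext_iff.1 (e.injective h1)).2
    simpa [th_zero] using h2.symm
  let g : F →+ F := AddMonoidHom.mk' g₀ fun a c => (hprod a c).1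
  let h : F →+ F := AddMonoidHom.mk' h₀ hh
  have hg : ∃ a, g a ≠ 0 := by
    refine ⟨1, fun h1 => one_ne_zero (α := F) ((eq_comm_iff e hmul hm hF (b := 0)).1 fun s => ?_)⟩
    apply φ.injective
    rw [map_mul, map_mul, ha, show g₀ 1 = 0 from h1]
    exact (eq_comm_iff e hmul hm hF).2 rfl _
  haveI := charTwo hF
  have hk00 : k₀ 0 = 0 := by
    show (e.symm (φ (e (0, 0)))).2 = 0
    rw [e_one e hmul hF, map_one, ← e_one e hmul hF, e.symm_apply_apply]
  have hq : ∀ a, h (th m a * a) = th m (g a) * g a := fun a => by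
    have h1 := (hprod a a).2
    rwa [CharTwo.add_self_eq_zero, hk00, CharTwo.add_self_eq_zero, zero_add, zero_add] at h1
  obtain ⟨σ, c, hc, hgσ, hhσ⟩ := semilinear_of_quad hm hF g h hg hq
  have hk : ∀ a b, k₀ (a + b) = k₀ a + k₀ b := by
    intro a b
    have h1 := (hprod a b).2
    rw [show h₀ (th m a * b) = _ from hhσ _, show g₀ a = _ from hgσ a, show g₀ b = _ from hgσ b,
      th_mul, map_mul, show σ (th m a) = th m (σ a) by rw [th, th, map_pow],
      show th m c * th m (σ a) * (c * σ b) = th m c * c * (th m (σ a) * σ b) by ring] at h1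
    exact add_right_cancel h1
  refine ⟨σ, c, AddMonoidHom.mk' k₀ hk, hc, fun a b => ?_⟩
  rw [hab, show g₀ a = _ from hgσ a, show h₀ b = _ from hhσ b]
  rfl

omit hmul in
/-- The automorphism with given data. -/
noncomputable def autFun (σ : F ≃+* F) (c : F) (k : F →+ F) (p : F × F) : F × F :=
  (c * σ p.1, k p.1 + th m c * c * σ p.2)

theorem exists_aut (hF : Fintype.card F = 2 ^ (2 * m + 1)) (σ : F ≃+* F) (c : Fˣ) (k : F →+ F) :
    ∃ φ : MulAut S, ∀ a b, φ (e (a, b)) = e (c * σ a, k a + th m (c : F) * c * σ b) := by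
  let A : F × F → F × F := autFun (m := m) σ c k
  have hA : Function.Injective A := by
    rintro ⟨a, b⟩ ⟨a', b'⟩ h
    obtain ⟨h1, h2⟩ := Prod.ext_iff.1 h
    have ha : a = a' := σ.injective (mul_left_cancel₀ c.ne_zero h1)
    subst ha
    have h3 : th m (c : F) * c ≠ 0 := mul_ne_zero (fun e => c.ne_zero (th_eq_zero.1 e)) c.ne_zero
    exact Prod.ext rfl (σ.injective (mul_left_cancel₀ h3 (add_left_cancel h2)))
  let E : S ≃ S :=
    (e.symm.trans (Equiv.ofBijective A (Finite.injective_iff_bijective.1 hA))).trans e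
  have hE : ∀ p, E (e p) = e (A p) := fun p => by simp [E]
  refine ⟨{ E with map_mul' := fun x y => ?_ }, fun a b => hE (a, b)⟩
  obtain ⟨p, rfl⟩ := e.surjective x
  obtain ⟨q, rfl⟩ := e.surjective y
  show E (e p * e q) = E (e p) * E (e q)
  rw [hmul, hE, hE, hE, hmul]
  simp only [A, autFun, map_add, map_mul, th_mul,
    show ∀ y, σ (th m y) = th m (σ y) from fun y => by rw [th, th, map_pow]]
  congr 1
  ext <;> ring

/-- The action on `S` modulo its centre. -/
noncomputable def linEnd (hm : 1 ≤ m) (hF : Fintype.card F = 2 ^ (2 * m + 1)) :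
    MulAut S →* Function.End F where
  toFun φ a := (e.symm (φ (e (a, 0)))).1
  map_one' := by
    funext a
    simp
    rfl
  map_mul' φ ψ := by
    funext a
    obtain ⟨σ, c, k, -, h⟩ := exists_shape e hmul hm hF φ
    obtain ⟨⟨u, v⟩, hv⟩ := e.surjective (ψ (e (a, 0)))
    show (e.symm (φ (ψ (e (a, 0))))).1 =
      (e.symm (φ (e ((e.symm (ψ (e (a, 0)))).1, 0)))).1
    rw [← hv, e.symm_apply_apply, h, h, e.symm_apply_apply, e.symm_apply_apply]

/-- The action on `S` modulo its centre, as permutations. -/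
noncomputable def linPart (hm : 1 ≤ m) (hF : Fintype.card F = 2 ^ (2 * m + 1)) :
    MulAut S →* Equiv.Perm F :=
  (linEnd e hmul hm hF).toHomPerm

theorem linPart_apply {hm : 1 ≤ m} {hF : Fintype.card F = 2 ^ (2 * m + 1)} {φ : MulAut S}
    {σ : F ≃+* F} {c : F} {k : F →+ F}
    (h : ∀ a b, φ (e (a, b)) = e (c * σ a, k a + th m c * c * σ b)) (a : F) :
    linPart e hmul hm hF φ a = c * σ a := by
  show (e.symm (φ (e (a, 0)))).1 = _
  rw [h, e.symm_apply_apply]

theorem card_range_linPart (hm : 1 ≤ m) (hF : Fintype.card F = 2 ^ (2 * m + 1)) :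
    Nat.card (linPart e hmul hm hF).range = (2 * m + 1) * (2 ^ (2 * m + 1) - 1) := by
  classical
  let q : Fˣ × RingAut F → Equiv.Perm F := fun q => q.2.toEquiv.trans q.1.mulLeft
  have hq : ∀ c σ a, q (c, σ) a = (c : F) * σ a := fun _ _ _ => rfl
  have hR : ((linPart e hmul hm hF).range : Set (Equiv.Perm F)) = Set.range q := by
    ext f
    constructor
    · rintro ⟨φ, rfl⟩
      obtain ⟨σ, c, k, hc, h⟩ := exists_shape e hmul hm hF φ
      exact ⟨(Units.mk0 c hc, σ), Equiv.ext fun a => (linPart_apply e hmul h a).symm⟩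
    · rintro ⟨⟨c, σ⟩, rfl⟩
      obtain ⟨φ, h⟩ := exists_aut e hmul hF σ c 0
      exact ⟨φ, Equiv.ext fun a => (linPart_apply e hmul h a).trans (hq c σ a).symm⟩
  have hinj : Function.Injective q := by
    rintro ⟨c, σ⟩ ⟨c', σ'⟩ h
    have hc : c = c' := Units.ext (by simpa [hq] using Equiv.congr_fun h 1)
    subst hc
    exact Prod.ext rfl (RingEquiv.ext fun a => mul_left_cancel₀ c.ne_zero (Equiv.congr_fun h a))
  refine (Nat.card_congr (Equiv.setCongr hR)).trans ((Nat.card_range_of_injective hinj).trans ?_)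
  rw [Nat.card_prod, card_ringAut hF, Nat.card_units, Nat.card_eq_fintype_card, hF, mul_comm]

theorem card_ker_linPart (hm : 1 ≤ m) (hF : Fintype.card F = 2 ^ (2 * m + 1)) :
    IsElementaryAbelian 2 (linPart e hmul hm hF).ker ∧
      Nat.card (linPart e hmul hm hF).ker = 2 ^ ((2 * m + 1) ^ 2) := by
  haveI := charTwo hF
  choose T hT using fun k : F →+ F => exists_aut e hmul hF (RingEquiv.refl F) (1 : Fˣ) k
  have hT' : ∀ k a b, T k (e (a, b)) = e (a, k a + b) := fun k a b => by
    rw [hT]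
    simp
  have hker : ∀ k, T k ∈ (linPart e hmul hm hF).ker := fun k => by
    rw [MonoidHom.mem_ker]
    ext a
    show (e.symm (T k (e (a, 0)))).1 = a
    rw [hT', e.symm_apply_apply]
  have hall : ∀ φ ∈ (linPart e hmul hm hF).ker, ∃ k, T k = φ := by
    intro φ hφ
    obtain ⟨σ, c, k, hc, h⟩ := exists_shape e hmul hm hF φ
    have hl : ∀ a, c * σ a = a := fun a =>
      (linPart_apply e hmul h a).symm.trans (Equiv.congr_fun (MonoidHom.mem_ker.1 hφ) a)
    have hc1 : c = 1 := by simpa using hl 1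
    subst hc1
    refine ⟨k, MulEquiv.ext fun s => ?_⟩
    obtain ⟨⟨a, b⟩, rfl⟩ := e.surjective s
    have hσ : ∀ a, σ a = a := fun a => by simpa using hl a
    rw [hT', h]
    simp [hσ]
  have hadd : ∀ k l, T k * T l = T (k + l) := fun k l => MulEquiv.ext fun s => by
    obtain ⟨⟨a, b⟩, rfl⟩ := e.surjective s
    rw [MulAut.mul_apply, hT', hT', hT', AddMonoidHom.add_apply, add_assoc]
  have h0 : T 0 = 1 := MulEquiv.ext fun s => by
    obtain ⟨⟨a, b⟩, rfl⟩ := e.surjective s
    rw [hT']
    simp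
  refine ⟨⟨⟨⟨fun x y => Subtype.ext ?_⟩⟩, fun φ hφ => ?_⟩, ?_⟩
  · obtain ⟨k, hk⟩ := hall _ x.2
    obtain ⟨l, hl⟩ := hall _ y.2
    show (x : MulAut S) * y = y * x
    rw [← hk, ← hl, hadd, hadd, add_comm]
  · obtain ⟨k, rfl⟩ := hall _ hφ
    rw [pow_two, hadd, show k + k = 0 from AddMonoidHom.ext fun a => CharTwo.add_self_eq_zero _, h0]
  · have hbij : Function.Bijective (fun k => (⟨T k, hker k⟩ : (linPart e hmul hm hF).ker)) := by
      refine ⟨fun k l h => AddMonoidHom.ext fun a => ?_, fun φ => ?_⟩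
      · have h1 := DFunLike.congr_fun (Subtype.ext_iff.1 h) (e (a, 0))
        simp only [hT', add_zero, EmbeddingLike.apply_eq_iff_eq, Prod.mk.injEq] at h1
        exact h1.2
      · obtain ⟨k, hk⟩ := hall _ φ.2
        exact ⟨k, Subtype.ext hk⟩
    rw [← Nat.card_eq_of_bijective _ hbij]
    haveI : Fact (Nat.Prime 2) := ⟨Nat.prime_two⟩
    letI := ZMod.algebra F 2
    have hn : Module.finrank (ZMod 2) F = 2 * m + 1 := by
      have h1 := Module.card_eq_pow_finrank (K := ZMod 2) (V := F)
      rw [hF, ZMod.card] at h1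
      exact (Nat.pow_right_injective le_rfl h1).symm
    rw [Nat.card_congr (AddMonoidHom.toZModLinearMapEquiv 2 (M := F) (M₁ := F)).toEquiv,
      Module.natCard_eq_pow_finrank (K := ZMod 2), Nat.card_zmod,
      Module.finrank_linearMap, hn, sq]

/-- `O_2(Aut S)` is elementary abelian of order `2 ^ (n ^ 2)` and has index `n (q - 1)`. -/
theorem aut_structure (hm : 1 ≤ m) (hF : Fintype.card F = 2 ^ (2 * m + 1)) :
    IsElementaryAbelian 2 (pCore 2 (MulAut S)) ∧
      Nat.card ↥(pCore 2 (MulAut S)) = 2 ^ ((2 * m + 1) ^ 2) ∧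
      Nat.card (MulAut S) = 2 ^ ((2 * m + 1) ^ 2) * ((2 * m + 1) * (2 ^ (2 * m + 1) - 1)) := by
  haveI : Fact (Nat.Prime 2) := ⟨Nat.prime_two⟩
  haveI : Finite S := Finite.of_equiv _ e
  haveI : Finite (MulAut S) := Finite.of_injective _ DFunLike.coe_injective
  obtain ⟨hel, hcard⟩ := card_ker_linPart e hmul hm hF
  set Φ := linPart e hmul hm hF with hΦ
  have hidx : Φ.ker.index = (2 * m + 1) * (2 ^ (2 * m + 1) - 1) := by
    rw [← card_range_linPart e hmul hm hF, Subgroup.index_ker]
  have hodd : Odd Φ.ker.index := by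
    rw [hidx]
    refine Odd.mul (by simp) (Nat.Even.sub_odd Nat.one_le_two_pow ?_ odd_one)
    exact Nat.even_pow.2 ⟨even_two, by omega⟩
  have hp : IsPGroup 2 Φ.ker := IsPGroup.of_card hcard
  have hcore : pCore 2 (MulAut S) = Φ.ker := by
    refine le_antisymm (fun x hx => ?_) (PCore.le_pCore hp)
    obtain ⟨j, hj⟩ := PCore.isPGroup_pCore (G := MulAut S) (p := 2) ⟨x, hx⟩
    have hj' : x ^ 2 ^ j = 1 := congrArg Subtype.val hj
    rw [← QuotientGroup.eq_one_iff, ← orderOf_eq_one_iff]
    have h1 : orderOf (x : MulAut S ⧸ Φ.ker) ∣ 2 ^ j :=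
      orderOf_dvd_of_pow_eq_one (by rw [← QuotientGroup.mk_pow, hj', QuotientGroup.mk_one])
    exact Nat.eq_one_of_dvd_coprimes ((Nat.coprime_two_left.2 hodd).pow_left j) h1
      (orderOf_dvd_natCard _)
  rw [hcore, ← Φ.ker.card_mul_index, hcard, hidx]
  exact ⟨hel, rfl, rfl⟩

end Aut

end Cfsg.Agent.SuzukiTwo.AutA
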