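import Cfsg.Prelude.Def_LieRecognition
import Cfsg.Agent.Lib.PGroup.Basic
import Cfsg.Agent.Lib.SuzukiTwo.Field

/-!
# Suzuki 2-groups: basic facts

For a Suzuki 2-group with regular cyclic `K`: `K` is semiregular, the involutions are central and
together with `1` form `invSub P`, coordinatised by `GaloisField 2 m`.
-/

namespace Cfsg.Agent.SuzukiTwo

variable {P : Type*} [Group P]

/-- The hypotheses of a Suzuki 2-group with the acting group `K` named. -/
structure Sz (P : Type*) [Group P] (K : Subgroup (MulAut P)) : Prop where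
  pgroup : IsPGroup 2 P
  nonab : ∃ x y : P, x * y ≠ y * x
  two : ∃ x y : P, x ≠ y ∧ x ≠ 1 ∧ x * x = 1 ∧ y ≠ 1 ∧ y * y = 1
  cyc : IsCyclic K
  reg : ∀ x y : P, x ≠ 1 → x * x = 1 → y ≠ 1 → y * y = 1 → ∃! k : K, (k : MulAut P) x = y

theorem exists_sz (hP : Cfsg.IsSuzukiTwoGroup P) :
    Finite P ∧ ∃ K : Subgroup (MulAut P), Sz P K := by
  obtain ⟨hf, hp, hn, ht, K, hc, hr⟩ := hP
  exact ⟨hf, K, hp, hn, ht, hc, hr⟩

/-- The subgroup generated by the elements squaring to one. -/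
def invSub (P : Type*) [Group P] : Subgroup P := Subgroup.closure {x | x * x = 1}

/-- `H` is invariant under `K`. -/
def KInv (K : Subgroup (MulAut P)) (H : Subgroup P) : Prop :=
  ∀ k : K, ∀ x ∈ H, (k : MulAut P) x ∈ H

/-- The commutator `g a g⁻¹ a⁻¹`. -/
def cm (g a : P) : P := g * a * g⁻¹ * a⁻¹

theorem cm_mul_left (g g' a : P) : cm (g * g') a = g * cm g' a * g⁻¹ * cm g a := by
  simp [cm, mul_assoc]

theorem cm_mul_right (g a b : P) : cm g (a * b) = cm g a * (a * cm g b * a⁻¹) := by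
  simp [cm, mul_assoc]

theorem cm_inv (g a : P) : (cm g a)⁻¹ = cm a g := by
  simp [cm, mul_assoc]

theorem cm_eq_one {g a : P} : cm g a = 1 ↔ g * a = a * g := by
  simp [cm, mul_inv_eq_iff_eq_mul]

theorem map_cm (k : MulAut P) (g a : P) : k (cm g a) = cm (k g) (k a) := by
  simp [cm, map_mul, map_inv]

/-- `{x | [x, P] ⊆ A}`. -/
def upper (A : Subgroup P) [hA : A.Normal] : Subgroup P where
  carrier := {x | ∀ g, cm x g ∈ A}
  one_mem' g := by simp [cm, one_mem]
  mul_mem' := by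
    intro x y hx hy g
    rw [cm_mul_left]
    exact mul_mem (hA.conj_mem _ (hy g) x) (hx g)
  inv_mem' := by
    intro x hx g
    have h := cm_mul_left x⁻¹ x g
    rw [inv_mul_cancel, show cm 1 g = 1 by simp [cm], inv_inv] at h
    rw [show cm x⁻¹ g = (x⁻¹ * cm x g * x)⁻¹ from eq_inv_of_mul_eq_one_right h.symm]
    exact inv_mem (by simpa using hA.conj_mem _ (hx g) x⁻¹)

theorem mem_upper {A : Subgroup P} [A.Normal] {x : P} : x ∈ upper A ↔ ∀ g, cm x g ∈ A := Iff.rfl

instance upper_normal (A : Subgroup P) [hA : A.Normal] : (upper A).Normal := by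
  refine ⟨fun x hx p g => ?_⟩
  have : cm (p * x * p⁻¹) g = p * cm x (p⁻¹ * g * p) * p⁻¹ := by simp [cm, mul_assoc]
  rw [this]
  exact hA.conj_mem _ (hx _) p

theorem kinv_upper {K : Subgroup (MulAut P)} {A : Subgroup P} [A.Normal] (hA : KInv K A) :
    KInv K (upper A) := by
  intro k x hx g
  have := hA k _ (hx ((k : MulAut P).symm g))
  rwa [map_cm, MulEquiv.apply_symm_apply] at this

theorem exists_mem_upper [Finite P] (hp : IsPGroup 2 P) {A D : Subgroup P} [A.Normal] [D.Normal]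
    {x : P} (hx : x ∈ D) (hxA : x ∉ A) : ∃ y ∈ D, y ∉ A ∧ y ∈ upper A := by
  have : Fact (Nat.Prime 2) := ⟨Nat.prime_two⟩
  let π := QuotientGroup.mk' A
  have hsurj : Function.Surjective π := QuotientGroup.mk'_surjective A
  have : (D.map π).Normal := Subgroup.Normal.map inferInstance π hsurj
  have hne : D.map π ≠ ⊥ := by
    intro h
    have h1 : π x ∈ D.map π := ⟨x, hx, rfl⟩
    rw [h, Subgroup.mem_bot] at h1
    exact hxA ((QuotientGroup.eq_one_iff x).1 h1)
  have h := Cfsg.Agent.PGroup.inf_center_ne_bot (hp.to_quotient A) (D.map π) hne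
  obtain ⟨⟨z, hz⟩, hz1⟩ := Subgroup.ne_bot_iff_exists_ne_one.1 h
  obtain ⟨⟨y, hy, rfl⟩, hc⟩ := hz
  refine ⟨y, hy, fun hyA => hz1 (Subtype.ext ((QuotientGroup.eq_one_iff y).2 hyA)), fun g => ?_⟩
  rw [← QuotientGroup.eq_one_iff]
  change π (cm y g) = 1
  simp only [cm, map_mul, map_inv]
  rw [← Subgroup.mem_center_iff.1 hc (π g)]
  simp [mul_assoc]

theorem exists_pow_boundary [Finite P] (hp : IsPGroup 2 P) (A : Subgroup P) {x : P} (hx : x ∉ A) :
    ∃ j, x ^ 2 ^ j ∉ A ∧ x ^ 2 ^ j * x ^ 2 ^ j ∈ A := by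
  classical
  obtain ⟨n, hn⟩ := hp x
  have h : ∃ i, x ^ 2 ^ i ∈ A := ⟨n, by rw [hn]; exact one_mem A⟩
  have h0 : Nat.find h ≠ 0 := fun e => hx (by simpa [e] using Nat.find_spec h)
  obtain ⟨j, hj⟩ := Nat.exists_eq_succ_of_ne_zero h0
  refine ⟨j, Nat.find_min h (by omega), ?_⟩
  have := Nat.find_spec h
  rwa [hj, pow_succ, pow_mul, pow_two] at this

variable {K : Subgroup (MulAut P)}

theorem Sz.exists_ne_one (hS : Sz P K) : ∃ k : K, k ≠ 1 := by
  obtain ⟨x, y, hxy, hx, hx', hy, hy'⟩ := hS.two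
  obtain ⟨k, hk, -⟩ := hS.reg x y hx hx' hy hy'
  exact ⟨k, fun e => hxy (by simpa [e] using hk)⟩

variable [Finite P]

theorem Sz.semireg (hS : Sz P K) {k : K} (hk : k ≠ 1) {x : P} (hx : (k : MulAut P) x = x) :
    x = 1 := by
  by_contra hx1
  obtain ⟨j, hj1, hj2⟩ := exists_pow_boundary hS.pgroup ⊥ (x := x) (by simpa using hx1)
  rw [Subgroup.mem_bot] at hj1 hj2
  refine hk ((hS.reg _ _ hj1 hj2 hj1 hj2).unique ?_ rfl)
  rw [map_pow, hx]

theorem Sz.central (hS : Sz P K) {x : P} (hx : x * x = 1) : x ∈ Subgroup.center P := by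
  by_cases hx1 : x = 1
  · exact hx1 ▸ one_mem _
  have : Fact (Nat.Prime 2) := ⟨Nat.prime_two⟩
  have : Nontrivial P := ⟨⟨x, 1, hx1⟩⟩
  have : Nontrivial (Subgroup.center P) := hS.pgroup.center_nontrivial
  obtain ⟨⟨z, hz⟩, hz1⟩ := exists_ne (1 : Subgroup.center P)
  obtain ⟨j, hj1, hj2⟩ := exists_pow_boundary hS.pgroup ⊥ (x := z)
    (by simpa using fun e => hz1 (Subtype.ext e))
  rw [Subgroup.mem_bot] at hj1 hj2
  obtain ⟨k, hk, -⟩ := hS.reg _ _ hj1 hj2 hx1 hx
  rw [← hk, Subgroup.mem_center_iff]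
  intro g
  obtain ⟨g, rfl⟩ := (k : MulAut P).surjective g
  rw [← map_mul, ← map_mul, Subgroup.mem_center_iff.1 (pow_mem hz _) g]

theorem Sz.mem_invSub (hS : Sz P K) {x : P} : x ∈ invSub P ↔ x * x = 1 := by
  refine ⟨fun h => ?_, fun h => Subgroup.subset_closure h⟩
  induction h using Subgroup.closure_induction with
  | mem x hx => exact hx
  | one => simp
  | mul x y _ _ hx hy =>
    have hc := Subgroup.mem_center_iff.1 (hS.central hy) x
    calc x * y * (x * y) = x * (y * x) * y := by simp [mul_assoc]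
      _ = x * (x * y) * y := by rw [hc]
      _ = x * x * (y * y) := by simp [mul_assoc]
      _ = 1 := by rw [hx, hy, one_mul]
  | inv x _ hx => rw [← mul_inv_rev, hx, inv_one]

theorem Sz.invSub_le_center (hS : Sz P K) : invSub P ≤ Subgroup.center P :=
  fun _ hx => hS.central (hS.mem_invSub.1 hx)

theorem Sz.invSub_normal (hS : Sz P K) : (invSub P).Normal := by
  refine ⟨fun x hx g => ?_⟩
  rwa [Subgroup.mem_center_iff.1 (hS.invSub_le_center hx) g, mul_inv_cancel_right]

theorem Sz.kinv_invSub (hS : Sz P K) : KInv K (invSub P) := by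
  intro k x hx
  rw [hS.mem_invSub] at hx ⊢
  rw [← map_mul, hx, map_one]

theorem Sz.commute (hS : Sz P K) {z : P} (hz : z * z = 1) (g : P) : g * z = z * g :=
  Subgroup.mem_center_iff.1 (hS.central hz) g

theorem Sz.invSub_le_of_kinv (hS : Sz P K) {H : Subgroup P} (hH : KInv K H) {z : P} (hz : z ∈ H)
    (hz1 : z ≠ 1) (hz2 : z * z = 1) : invSub P ≤ H := by
  intro w hw
  rw [hS.mem_invSub] at hw
  by_cases hw1 : w = 1
  · exact hw1 ▸ one_mem H
  obtain ⟨k, hk, -⟩ := hS.reg z w hz1 hz2 hw1 hw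
  exact hk ▸ hH k z hz

/-- Semiregularity on quotients, without quotients. -/
theorem Sz.mem_of_diff (hS : Sz P K) {N : Subgroup P} (hN : KInv K N) {k : K} (hk : k ≠ 1)
    {x : P} (hx : x⁻¹ * (k : MulAut P) x ∈ N) : x ∈ N := by
  let f : N → N := fun n => ⟨(n : P)⁻¹ * (k : MulAut P) n, mul_mem (inv_mem n.2) (hN k _ n.2)⟩
  have key : ∀ a b : P, a⁻¹ * (k : MulAut P) a = b⁻¹ * (k : MulAut P) b → a = b := by
    intro a b h
    refine mul_inv_eq_one.1 (hS.semireg hk ?_)
    rw [map_mul, map_inv, (inv_mul_eq_iff_eq_mul.1 h : (k : MulAut P) a = _)]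
    simp [mul_assoc]
  have hinj : Function.Injective f := fun a b h => Subtype.ext (key _ _ (congrArg Subtype.val h))
  obtain ⟨n, hn⟩ := Finite.surjective_of_injective hinj ⟨_, hx⟩
  rw [← key _ _ (congrArg Subtype.val hn)]
  exact n.2

/-- Coordinates on the involutions. -/
structure Coord (K : Subgroup (MulAut P)) (F : Type*) [Field F] where
  toF : P → F
  ofF : F → P
  lam : K →* Fˣ
  lam_bij : Function.Bijective lam
  toF_mul : ∀ {x y}, x * x = 1 → y * y = 1 → toF (x * y) = toF x + toF y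
  ofF_sq : ∀ c, ofF c * ofF c = 1
  toF_ofF : ∀ c, toF (ofF c) = c
  ofF_toF : ∀ {x}, x * x = 1 → ofF (toF x) = x
  toF_smul : ∀ (k : K) {x}, x * x = 1 → toF ((k : MulAut P) x) = lam k * toF x

namespace Coord

omit [Finite P]
variable {F : Type*} [Field F] (Co : Coord K F)

theorem toF_one : Co.toF 1 = 0 := by
  have := Co.toF_mul (one_mul (1 : P)) (one_mul (1 : P))
  rwa [one_mul, eq_comm, add_eq_left] at this

theorem toF_inj {x y : P} (hx : x * x = 1) (hy : y * y = 1) (h : Co.toF x = Co.toF y) : x = y := by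
  rw [← Co.ofF_toF hx, h, Co.ofF_toF hy]

theorem toF_eq_zero {x : P} (hx : x * x = 1) : Co.toF x = 0 ↔ x = 1 :=
  ⟨fun h => Co.toF_inj hx (one_mul 1) (h.trans Co.toF_one.symm), fun h => h ▸ Co.toF_one⟩

theorem ofF_ne_one {c : F} (hc : c ≠ 0) : Co.ofF c ≠ 1 := fun h =>
  hc (by rw [← Co.toF_ofF c, h, Co.toF_one])

end Coord

theorem Sz.exists_coord (hS : Sz P K) : ∃ m : ℕ, 2 ≤ m ∧ Nat.card (invSub P) = 2 ^ m ∧
    Nonempty (Coord K (GaloisField 2 m)) := by
  classical
  have hfix : ∀ (k : K) (x : invSub P), (k : MulAut P) x ∈ invSub P := fun k x =>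
    hS.kinv_invSub k x x.2
  have hcomm : ∀ a b : invSub P, a * b = b * a := fun a b =>
    Subtype.ext (hS.commute (hS.mem_invSub.1 b.2) a)
  let : CommGroup (invSub P) := { (inferInstance : Group (invSub P)) with mul_comm := hcomm }
  let act : K → AddMonoid.End (Additive (invSub P)) := fun k =>
    AddMonoidHom.mk' (fun a => Additive.ofMul ⟨(k : MulAut P) (Additive.toMul a : invSub P), hfix _ _⟩)
      fun a b => congrArg Additive.ofMul (Subtype.ext (map_mul (k : MulAut P) _ _))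
  let φ : K →* AddMonoid.End (Additive (invSub P)) :=
    { toFun := act
      map_one' := AddMonoidHom.ext fun a => rfl
      map_mul' := fun k l => AddMonoidHom.ext fun a => rfl }
  have := hS.cyc
  have hne : ∀ {a : Additive (invSub P)}, a ≠ 0 → ((Additive.toMul a : invSub P) : P) ≠ 1 :=
    fun {a} ha e => ha (congrArg Additive.ofMul
      ((Subtype.ext e : (Additive.toMul a : invSub P) = 1)))
  obtain ⟨x, y, hxy, hx, hx', hy, hy'⟩ := hS.two
  obtain ⟨m, hm, hcard, ι, lam, hlam, hι⟩ := exists_field_coord φ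
    (fun a => congrArg Additive.ofMul (Subtype.ext (hS.mem_invSub.1 (Additive.toMul a).2) :
      (Additive.toMul a : invSub P) * Additive.toMul a = 1))
    ⟨Additive.ofMul ⟨x, hS.mem_invSub.2 hx'⟩, Additive.ofMul ⟨y, hS.mem_invSub.2 hy'⟩,
      fun e => hx (congrArg (fun a => ((Additive.toMul a : invSub P) : P)) e),
      fun e => hy (congrArg (fun a => ((Additive.toMul a : invSub P) : P)) e),
      fun e => hxy (congrArg (fun a => ((Additive.toMul a : invSub P) : P)) e)⟩
    (fun a b ha hb => by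
      obtain ⟨k, hk, hu⟩ := hS.reg _ _ (hne ha) (hS.mem_invSub.1 (Additive.toMul a).2) (hne hb)
        (hS.mem_invSub.1 (Additive.toMul b).2)
      exact ⟨k, congrArg Additive.ofMul (Subtype.ext hk), fun l hl =>
        hu l (congrArg (fun a => ((Additive.toMul a : invSub P) : P)) hl)⟩)
  have hcard' : Nat.card (invSub P) = 2 ^ m := by
    rw [← hcard]; exact Nat.card_congr Additive.ofMul
  refine ⟨m, hm, hcard', ⟨?_⟩⟩
  let toF : P → GaloisField 2 m := fun x =>
    if h : x * x = 1 then ι (Additive.ofMul ⟨x, hS.mem_invSub.2 h⟩) else 0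
  have hto : ∀ {x : P} (h : x * x = 1), toF x = ι (Additive.ofMul ⟨x, hS.mem_invSub.2 h⟩) :=
    fun h => dif_pos h
  refine
    { toF := toF
      ofF := fun c => ((Additive.toMul (ι.symm c) : invSub P) : P)
      lam := lam
      lam_bij := hlam
      toF_mul := ?_
      ofF_sq := fun c => hS.mem_invSub.1 (Additive.toMul (ι.symm c)).2
      toF_ofF := ?_
      ofF_toF := ?_
      toF_smul := ?_ }
  · intro x y hx hy
    have hxy : x * y * (x * y) = 1 :=
      hS.mem_invSub.1 (mul_mem (hS.mem_invSub.2 hx) (hS.mem_invSub.2 hy))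
    rw [hto hx, hto hy, hto hxy, ← map_add]
    rfl
  · intro c
    rw [hto (hS.mem_invSub.1 (Additive.toMul (ι.symm c)).2)]
    exact ι.apply_symm_apply c
  · intro x hx
    rw [hto hx, ι.symm_apply_apply]
    rfl
  · intro k x hx
    rw [hto hx, hto (show (k : MulAut P) x * (k : MulAut P) x = 1 by rw [← map_mul, hx, map_one]),
      ← hι k]
    rfl

end Cfsg.Agent.SuzukiTwo
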