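import Cfsg.Agent.Lib.SuzukiTwo.Basic

/-!
# The layer lemma of Higman's argument

If `A` is abelian of exponent `2 ^ e` and `B/A` is an elementary central `K`-invariant section whose
action on `A` is small, then `B` centralises `A`; and then `B` is abelian.
-/

namespace Cfsg.Agent.SuzukiTwo

variable {P : Type*} [Group P] {K : Subgroup (MulAut P)}

/-- An abelian normal invariant subgroup containing all involutions, of exponent `2 ^ e`, with the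
squaring maps as surjective as possible. -/
structure Homo (K : Subgroup (MulAut P)) (A : Subgroup P) (e : ℕ) : Prop where
  normal : A.Normal
  kinv : KInv K A
  le : invSub P ≤ A
  comm : ∀ a ∈ A, ∀ b ∈ A, a * b = b * a
  two_le : 2 ≤ e
  exp : ∀ a ∈ A, a ^ 2 ^ e = 1
  sqrt : ∀ a ∈ A, a ^ 2 ^ (e - 1) = 1 → ∃ b ∈ A, b * b = a
  top : ∀ z : P, z * z = 1 → ∃ a ∈ A, a ^ 2 ^ (e - 1) = z

theorem sq_mul {A : Subgroup P} (hab : ∀ a ∈ A, ∀ b ∈ A, a * b = b * a) {a b : P} (ha : a ∈ A)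
    (hb : b ∈ A) : a * b * (a * b) = a * a * (b * b) :=
  Commute.mul_mul_mul_comm (hab b hb a ha : Commute b a) a b

theorem cm_mem {A : Subgroup P} (hA : A.Normal) (g : P) {a : P} (ha : a ∈ A) : cm g a ∈ A :=
  mul_mem (hA.conj_mem a ha g) (inv_mem ha)

theorem cm_mul_of_mem {A : Subgroup P} (hA : A.Normal) (hab : ∀ a ∈ A, ∀ b ∈ A, a * b = b * a)
    (g : P) {a b : P} (ha : a ∈ A) (hb : b ∈ A) : cm g (a * b) = cm g a * cm g b := by
  rw [cm_mul_right, hab a ha _ (cm_mem hA g hb), mul_inv_cancel_right]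

variable [Finite P]

set_option maxHeartbeats 1000000 in
theorem layer (hS : Sz P K) {F : Type*} [Field F] [Finite F] [CharP F 2] (Co : Coord K F)
    {A B : Subgroup P} {e : ℕ} (hA : Homo K A e) (hBK : KInv K B) (hAB : A ≤ B)
    (hne : ∃ g ∈ B, g ∉ A) (hsq : ∀ g ∈ B, g * g ∈ A) (hcom : ∀ g ∈ B, ∀ p, cm g p ∈ A)
    (h1 : ∀ g ∈ B, ∀ a ∈ A, cm g a * cm g a = 1) (h2 : ∀ g ∈ B, ∀ a ∈ A, cm g (a * a) = 1)
    (h3 : ∀ g ∈ B, ∀ w : P, w * w = 1 → ∃ c ∈ A, c * c = w ∧ cm g c = 1)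
    (h4 : 3 ≤ e ∨ ∀ g ∈ B, ∀ a ∈ A, cm g a = 1) :
    (∀ g ∈ B, ∀ a ∈ A, cm g a = 1) ∧
      ((∀ g ∈ B, ∀ a ∈ A, cm g a = 1) → ∀ g ∈ B, ∀ h ∈ B, g * h = h * g) := by
  classical
  have hcA : ∀ g ∈ B, ∀ h, g⁻¹ * (h * g * h⁻¹) ∈ A := by
    intro g hg h
    have e1 : g⁻¹ * (h * g * h⁻¹) = g⁻¹ * (cm g h)⁻¹ * g⁻¹⁻¹ := by simp [cm, mul_assoc]
    rw [e1]
    exact hA.normal.conj_mem _ (inv_mem (hcom g hg h)) _
  have hconj : ∀ g h : P, cm h (g * g) * (g * g) =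
      g * (g⁻¹ * (h * g * h⁻¹)) * (g * (g⁻¹ * (h * g * h⁻¹))) := by
    intro g h
    simp [cm, mul_assoc]
  have hrel : ∀ g ∈ B, ∀ h, cm h (g * g) = cm g⁻¹ (g⁻¹ * (h * g * h⁻¹)) *
      (g⁻¹ * (h * g * h⁻¹) * (g⁻¹ * (h * g * h⁻¹))) := by
    intro g hg h
    set c := g⁻¹ * (h * g * h⁻¹) with hc
    have hcA' : c ∈ A := hcA g hg h
    refine mul_right_cancel (b := g * g) ((hconj g h).trans ?_)
    rw [← hc, hA.comm _ (mul_mem (cm_mem hA.normal g⁻¹ hcA') (mul_mem hcA' hcA')) _ (hsq g hg)]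
    simp [cm, mul_assoc]
  have hc4 : ∀ g ∈ B, ∀ h ∈ B, (g⁻¹ * (h * g * h⁻¹)) ^ 2 ^ (e - 1) = 1 ∧
      ((∀ g ∈ B, ∀ a ∈ A, cm g a = 1) →
        g⁻¹ * (h * g * h⁻¹) * (g⁻¹ * (h * g * h⁻¹)) = 1) := by
    intro g hg h hh
    set c := g⁻¹ * (h * g * h⁻¹) with hc
    have hcA' : c ∈ A := hcA g hg h
    have e1 := hrel g hg h
    rw [← hc] at e1
    have hone : (∀ g ∈ B, ∀ a ∈ A, cm g a = 1) → c * c = 1 := by
      intro h0
      rw [h0 h hh _ (hsq g hg), h0 _ (inv_mem hg) c hcA', one_mul] at e1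
      exact e1.symm
    refine ⟨?_, hone⟩
    rcases h4 with he | he
    · have e2 : c * c * (c * c) = 1 := by
        have : c * c = (cm g⁻¹ c)⁻¹ * cm h (g * g) := by rw [e1, inv_mul_cancel_left]
        rw [this]
        refine hS.mem_invSub.1 (mul_mem (inv_mem (hS.mem_invSub.2 (h1 _ (inv_mem hg) c hcA')))
          (hS.mem_invSub.2 (h1 h hh _ (hsq g hg))))
      obtain ⟨d, hd⟩ : ∃ d, e - 1 = 2 + d := ⟨e - 3, by omega⟩
      rw [hd, pow_add, pow_mul, show c ^ 2 ^ 2 = c * c * (c * c) by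
        rw [show (2 : ℕ) ^ 2 = 2 + 2 by norm_num, pow_add, pow_two], e2, one_pow]
    · obtain ⟨d, hd⟩ : ∃ d, e - 1 = 1 + d := ⟨e - 2, by have := hA.two_le; omega⟩
      rw [hd, pow_add, pow_mul, pow_one, pow_two, hone he, one_pow]
  have he1 : e = 1 + (e - 1) := by have := hA.two_le; omega
  have hτ : ∀ g : P, g ^ 2 ^ e = (g * g) ^ 2 ^ (e - 1) := by
    intro g
    conv_lhs => rw [he1, pow_add, pow_mul, pow_one, pow_two]
  have hτsq : ∀ g ∈ B, g ^ 2 ^ e * g ^ 2 ^ e = 1 := by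
    intro g hg
    rw [hτ, ← pow_add, ← two_mul, ← pow_succ', show e - 1 + 1 = e by omega]
    exact hA.exp _ (hsq g hg)
  have hτmul : ∀ g ∈ B, ∀ h ∈ B, (g * h) ^ 2 ^ e = g ^ 2 ^ e * h ^ 2 ^ e := by
    intro g hg h hh
    set c := g⁻¹ * (h * g * h⁻¹) with hc
    have hcA' : c ∈ A := hcA g hg h
    rw [hτ, hτ g, hτ h, show g * h * (g * h) = g * g * c * (h * h) by simp [hc, mul_assoc],
      Commute.mul_pow (hA.comm _ (mul_mem (hsq g hg) hcA') _ (hsq h hh)),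
      Commute.mul_pow (hA.comm _ (hsq g hg) _ hcA'), (hc4 g hg h hh).1, mul_one]
  have hτker : ∀ g ∈ B, g ^ 2 ^ e = 1 → g ∈ A := by
    intro g hg hg1
    rw [hτ] at hg1
    obtain ⟨b, hb, hbb⟩ := hA.sqrt _ (hsq g hg) hg1
    set u := g * b⁻¹ with hu
    have huB : u ∈ B := mul_mem hg (inv_mem (hAB hb))
    have hw : u * u = cm g⁻¹ b⁻¹ := by
      have e1 : u * u = g * g * (cm g⁻¹ b⁻¹ * (b⁻¹ * b⁻¹)) := by simp [hu, cm, mul_assoc]
      rw [e1, hA.comm _ (cm_mem hA.normal g⁻¹ (inv_mem hb)) _ (mul_mem (inv_mem hb) (inv_mem hb)),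
        ← hbb]
      simp [mul_assoc]
    obtain ⟨c, hcA', hcc, hfc⟩ := h3 u huB (cm g⁻¹ b⁻¹) (h1 _ (inv_mem hg) _ (inv_mem hb))
    have hcu : u * c = c * u := cm_eq_one.1 hfc
    have hi : u * c⁻¹ * (u * c⁻¹) = 1 := by
      have hcm : u * c⁻¹ = c⁻¹ * u := (Commute.inv_right (show Commute u c from hcu)).eq
      calc u * c⁻¹ * (u * c⁻¹) = u * (c⁻¹ * u) * c⁻¹ := by simp [mul_assoc]
        _ = u * u * (c * c)⁻¹ := by rw [← hcm]; simp [mul_assoc]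
        _ = 1 := by rw [hw, hcc, mul_inv_cancel]
    have huA : u ∈ A := by
      have := mul_mem (hA.le (hS.mem_invSub.2 hi)) hcA'
      rwa [inv_mul_cancel_right] at this
    simpa [hu] using mul_mem huA hb
  have hτA : ∀ a ∈ A, a ^ 2 ^ e = 1 := hA.exp
  have hsurj : ∀ c : F, ∃ g ∈ B, g ^ 2 ^ e = Co.ofF c := by
    obtain ⟨g, hg, hgA⟩ := hne
    let T : Subgroup P :=
      { carrier := {z | ∃ g ∈ B, g ^ 2 ^ e = z}
        one_mem' := ⟨1, one_mem B, one_pow _⟩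
        mul_mem' := by
          rintro _ _ ⟨a, ha, rfl⟩ ⟨b, hb, rfl⟩
          exact ⟨a * b, mul_mem ha hb, hτmul a ha b hb⟩
        inv_mem' := by
          rintro _ ⟨a, ha, rfl⟩
          exact ⟨a⁻¹, inv_mem ha, inv_pow _ _⟩ }
    have hT : KInv K T := by
      rintro k _ ⟨a, ha, rfl⟩
      exact ⟨(k : MulAut P) a, hBK k a ha, (map_pow _ _ _).symm⟩
    intro c
    exact hS.invSub_le_of_kinv hT ⟨g, hg, rfl⟩ (fun h => hgA (hτker g hg h)) (hτsq g hg)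
      (hS.mem_invSub.2 (Co.ofF_sq c))
  choose s hsB hs using hsurj
  choose α hαA hα using fun c => hA.top (Co.ofF c) (Co.ofF_sq c)
  -- the cosets of `A` in `B` are separated by `τ`
  have hdiv : ∀ g ∈ B, ∀ g' ∈ B, g ^ 2 ^ e = g' ^ 2 ^ e → g⁻¹ * g' ∈ A := by
    intro g hg g' hg' h
    refine hτker _ (mul_mem (inv_mem hg) hg') ?_
    rw [hτmul _ (inv_mem hg) _ hg', ← h, inv_pow, inv_mul_cancel]
  have hcmA : ∀ g, ∀ a ∈ A, ∀ b ∈ A, cm (g * b) a = cm g a := by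
    intro g a ha b hb
    rw [cm_mul_left, cm_eq_one.2 (hA.comm b hb a ha)]
    simp
  have hcentral : ∀ {z : P}, z * z = 1 → ∀ g : P, g * z * g⁻¹ = z := fun hz g => by
    rw [hS.commute hz g, mul_inv_cancel_right]
  have hcl : ∀ g ∈ B, ∀ g' ∈ B, ∀ a ∈ A, cm (g * g') a = cm g' a * cm g a := by
    intro g hg g' hg' a ha
    rw [cm_mul_left, hcentral (h1 g' hg' a ha)]
  have hmain : ∀ g ∈ B, ∀ a ∈ A, cm g a = 1 := by
    set Φ : F → F → F := fun x y => Co.toF (cm (s x) (α y)) with hΦ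
    have hwd : ∀ g ∈ B, ∀ a ∈ A,
        Co.toF (cm g a) = Φ (Co.toF (g ^ 2 ^ e)) (Co.toF (a ^ 2 ^ (e - 1))) := by
      intro g hg a ha
      have ha2 : a ^ 2 ^ (e - 1) * a ^ 2 ^ (e - 1) = 1 := by
        rw [← pow_add, ← two_mul, ← pow_succ', show e - 1 + 1 = e by omega]
        exact hA.exp a ha
      set x := Co.toF (g ^ 2 ^ e) with hx
      set y := Co.toF (a ^ 2 ^ (e - 1)) with hy
      have hgx : g⁻¹ * s x ∈ A := hdiv g hg _ (hsB x) (by
        rw [hs, hx, Co.ofF_toF (hτsq g hg)])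
      obtain ⟨b, hb, hbb⟩ := hA.sqrt (a⁻¹ * α y) (mul_mem (inv_mem ha) (hαA y)) (by
        rw [Commute.mul_pow (hA.comm _ (inv_mem ha) _ (hαA y)), hα, hy, Co.ofF_toF ha2, inv_pow,
          inv_mul_cancel])
      have e1 : s x = g * (g⁻¹ * s x) := by simp
      have e2 : α y = a * (b * b) := by rw [hbb]; simp
      simp only [hΦ]
      conv_rhs => rw [e1, hcmA g _ (hαA y) _ hgx, e2,
        cm_mul_of_mem hA.normal hA.comm g ha (mul_mem hb hb), h2 g hg b hb, mul_one]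
    have hz : ∀ x y, cm (s x) (α y) * cm (s x) (α y) = 1 := fun x y => h1 _ (hsB x) _ (hαA y)
    have key : ∀ x y, Φ x y = 0 := by
      refine hua Φ ?_ ?_ ?_ ?_
      · intro x x' y
        have := hwd (s x * s x') (mul_mem (hsB x) (hsB x')) (α y) (hαA y)
        rw [hcl _ (hsB x) _ (hsB x') _ (hαA y), Co.toF_mul (hz x' y) (hz x y), add_comm, hα,
          hτmul _ (hsB x) _ (hsB x'), hs, hs, Co.toF_mul (Co.ofF_sq _) (Co.ofF_sq _),
          Co.toF_ofF, Co.toF_ofF, Co.toF_ofF] at this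
        exact this.symm
      · intro x y y'
        have := hwd (s x) (hsB x) (α y * α y') (mul_mem (hαA y) (hαA y'))
        rw [cm_mul_of_mem hA.normal hA.comm _ (hαA y) (hαA y'), Co.toF_mul (hz x y) (hz x y'),
          Commute.mul_pow (hA.comm _ (hαA y) _ (hαA y')), hα, hα, hs,
          Co.toF_mul (Co.ofF_sq _) (Co.ofF_sq _), Co.toF_ofF, Co.toF_ofF, Co.toF_ofF] at this
        exact this.symm
      · intro c x y hc
        obtain ⟨k, hk⟩ := Co.lam_bij.2 (Units.mk0 c hc)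
        have := hwd ((k : MulAut P) (s x)) (hBK k _ (hsB x)) _ (hA.kinv k _ (hαA y))
        rw [← map_cm, Co.toF_smul k (hz x y), hk, ← map_pow, ← map_pow, hs, hα,
          Co.toF_smul k (Co.ofF_sq _), Co.toF_smul k (Co.ofF_sq _), hk, Co.toF_ofF,
          Co.toF_ofF] at this
        exact this.symm
      · intro x
        have := hwd (s x) (hsB x) (s x * s x) (hsq _ (hsB x))
        rw [← hτ, hs, Co.toF_ofF, show cm (s x) (s x * s x) = 1 from
          cm_eq_one.2 (by simp [mul_assoc]), Co.toF_one] at this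
        exact this.symm
    intro g hg a ha
    exact (Co.toF_eq_zero (h1 g hg a ha)).1 ((hwd g hg a ha).trans (key _ _))
  refine ⟨hmain, fun h0 => ?_⟩
  have hγ1 : ∀ g ∈ B, ∀ h ∈ B, cm g h * cm g h = 1 := by
    intro g hg h hh
    have hz : (h⁻¹ * (g * h * g⁻¹)) * (h⁻¹ * (g * h * g⁻¹)) = 1 := (hc4 h hh g hg).2 h0
    have e1 : cm g h = h * (h⁻¹ * (g * h * g⁻¹)) * h⁻¹ := by simp [cm, mul_assoc]
    rwa [e1, hcentral hz]
  have hγl : ∀ g ∈ B, ∀ g' ∈ B, ∀ h ∈ B, cm (g * g') h = cm g' h * cm g h := by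
    intro g hg g' hg' h hh
    rw [cm_mul_left, hcentral (hγ1 g' hg' h hh)]
  have hγr : ∀ g ∈ B, ∀ h ∈ B, ∀ h' ∈ B, cm g (h * h') = cm g h * cm g h' := by
    intro g hg h hh h' hh'
    rw [cm_mul_right, hcentral (hγ1 g hg h' hh')]
  set Γ : F → F → F := fun x y => Co.toF (cm (s x) (s y)) with hΓ
  have hwd : ∀ g ∈ B, ∀ h ∈ B,
      Co.toF (cm g h) = Γ (Co.toF (g ^ 2 ^ e)) (Co.toF (h ^ 2 ^ e)) := by
    intro g hg h hh
    set x := Co.toF (g ^ 2 ^ e) with hx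
    set y := Co.toF (h ^ 2 ^ e) with hy
    have hgx : g⁻¹ * s x ∈ A := hdiv g hg _ (hsB x) (by rw [hs, hx, Co.ofF_toF (hτsq g hg)])
    have hhy : h⁻¹ * s y ∈ A := hdiv h hh _ (hsB y) (by rw [hs, hy, Co.ofF_toF (hτsq h hh)])
    have e1 : s x = g * (g⁻¹ * s x) := by simp
    have e2 : s y = h * (h⁻¹ * s y) := by simp
    simp only [hΓ]
    conv_rhs => rw [e1, e2, hγl g hg _ (hAB hgx) _ (mul_mem hh (hAB hhy)),
      hγr g hg h hh _ (hAB hhy), h0 g hg _ hhy, mul_one,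
      ← cm_inv, h0 _ (mul_mem hh (hAB hhy)) _ hgx, inv_one, one_mul]
  have hz : ∀ x y, cm (s x) (s y) * cm (s x) (s y) = 1 := fun x y => hγ1 _ (hsB x) _ (hsB y)
  have key : ∀ x y, Γ x y = 0 := by
    refine hua Γ ?_ ?_ ?_ ?_
    · intro x x' y
      have := hwd (s x * s x') (mul_mem (hsB x) (hsB x')) (s y) (hsB y)
      rw [hγl _ (hsB x) _ (hsB x') _ (hsB y), Co.toF_mul (hz x' y) (hz x y), add_comm,
        hτmul _ (hsB x) _ (hsB x'), hs, hs, hs, Co.toF_mul (Co.ofF_sq _) (Co.ofF_sq _),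
        Co.toF_ofF, Co.toF_ofF, Co.toF_ofF] at this
      exact this.symm
    · intro x y y'
      have := hwd (s x) (hsB x) (s y * s y') (mul_mem (hsB y) (hsB y'))
      rw [hγr _ (hsB x) _ (hsB y) _ (hsB y'), Co.toF_mul (hz x y) (hz x y'),
        hτmul _ (hsB y) _ (hsB y'), hs, hs, hs, Co.toF_mul (Co.ofF_sq _) (Co.ofF_sq _),
        Co.toF_ofF, Co.toF_ofF, Co.toF_ofF] at this
      exact this.symm
    · intro c x y hc
      obtain ⟨k, hk⟩ := Co.lam_bij.2 (Units.mk0 c hc)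
      have := hwd _ (hBK k _ (hsB x)) _ (hBK k _ (hsB y))
      rw [← map_cm, Co.toF_smul k (hz x y), hk, ← map_pow, ← map_pow, hs, hs,
        Co.toF_smul k (Co.ofF_sq _), Co.toF_smul k (Co.ofF_sq _), hk, Co.toF_ofF,
        Co.toF_ofF] at this
      exact this.symm
    · intro x
      simp only [hΓ]
      rw [show cm (s x) (s x) = 1 from cm_eq_one.2 rfl, Co.toF_one]
  intro g hg h hh
  exact cm_eq_one.1 ((Co.toF_eq_zero (hγ1 g hg h hh)).1 ((hwd g hg h hh).trans (key _ _)))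

end Cfsg.Agent.SuzukiTwo
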