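import Cfsg.Agent.Lib.SuzukiTwo.Field
import Cfsg.Agent.S1140

/-!
# The final step of Higman's argument

`quartic_trivial`: the abstract statement that kills the fourth powers when `A` is homocyclic of
exponent 4.  Here `Φ g` is the pairing `z = a² ↦ [g, a]` and `t g = g⁴`.
-/

namespace Cfsg.Agent.SuzukiTwo

theorem quartic_trivial {P K F : Type*} [Group P] [Group K] [Field F] [Fintype F] [CharP F 2]
    (act : K →* MulAut P) (A : Subgroup P) (lam : K →* Fˣ) (hlam : Function.Bijective lam)
    (hq : 4 ≤ Fintype.card F)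
    (Φ : P → (F →+ F)) (t : P → F)
    (hΦ : ∀ g h, Φ (g * h) = Φ g + Φ h) (hker : ∀ g, Φ g = 0 ↔ g ∈ A)
    (hA : ∀ g a, a ∈ A → t (g * a) = t g)
    (hcomm : ∀ g h : P, (h * g)⁻¹ * (g * h) ∈ A)
    (hβ : ∀ g g' h, t (g * g' * h) + t (g * g') + t h =
      (t (g * h) + t g + t h) + (t (g' * h) + t g' + t h))
    (hΦt : ∀ g, Φ g (t g) = 0)
    (hrel : ∀ g h, Φ h (t g) = Φ g (t (g * h) + t g + t h) + (t (g * h) + t g + t h))
    (hsemi : ∀ k : K, k ≠ 1 → ∀ g, g⁻¹ * act k g ∈ A → g ∈ A)
    (hΦk : ∀ k g x, Φ (act k g) (lam k * x) = lam k * Φ g x) : ∀ g, t g = 0 := by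
  classical
  have : Finite (F ≃+* F) := Finite.of_injective _ DFunLike.coe_injective
  let _ := Fintype.ofFinite (F ≃+* F)
  have hli : LinearIndependent F (fun σ : F ≃+* F => ((σ : F →+* F) : F → F)) :=
    (Cfsg.Agent.S1140.result (F := F)).1
  have hex : ∀ f : F →+ F, ∃ c : (F ≃+* F) → F, ∀ x, f x = ∑ σ, c σ * σ x := by
    intro f
    obtain ⟨s, c, hc⟩ := (Cfsg.Agent.S1140.result (F := F)).2.1 f
    refine ⟨fun σ => if σ ∈ s then c σ else 0, fun x => ?_⟩
    simp only [hc, ite_mul, zero_mul, Finset.sum_ite_mem, Finset.univ_inter]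
  have huniq : ∀ c d : (F ≃+* F) → F, (∀ x, ∑ σ, c σ * σ x = ∑ σ, d σ * σ x) → c = d := by
    intro c d h
    refine funext fun σ => sub_eq_zero.1
      (Fintype.linearIndependent_iff.1 hli (fun σ => c σ - d σ) (funext fun x => ?_) σ)
    simp [sub_mul, h x]
  choose π hπ using fun g => hex (Φ g)
  have hπadd : ∀ g h, π (g * h) = π g + π h := fun g h => huniq _ _ fun x => by
    rw [← hπ, hΦ, AddMonoidHom.add_apply, hπ, hπ, ← Finset.sum_add_distrib]
    simp [add_mul]
  let μ : (F ≃+* F) → K →* Fˣ := fun σ => lam / (Units.map ((σ : F →+* F) : F →* F)).comp lam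
  have hμ : ∀ σ k, ((μ σ k : Fˣ) : F) = (lam k : F) / σ (lam k) := fun σ k => by simp [μ]
  have hπk : ∀ k g, π (act k g) = fun σ => (μ σ k : F) * π g σ := fun k g => huniq _ _ fun x => by
    have h := hΦk k g ((lam k : F)⁻¹ * x)
    rw [mul_inv_cancel_left₀ (Units.ne_zero _), hπ, hπ, Finset.mul_sum] at h
    rw [h]
    refine Finset.sum_congr rfl fun σ _ => ?_
    rw [hμ, map_mul, map_inv₀, div_eq_mul_inv]
    ring
  have hπ0 : ∀ g, π g = 0 ↔ g ∈ A := fun g => by
    rw [← hker]
    constructor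
    · intro h
      ext x
      simp [hπ, h]
    · intro h
      exact huniq _ _ fun x => by rw [← hπ, h]; simp
  obtain ⟨Λ, hΛ⟩ := IsCyclic.exists_generator (α := Fˣ)
  obtain ⟨k0, hk0⟩ := hlam.2 Λ
  have hπ1 : π 1 = 0 := (hπ0 1).2 (one_mem A)
  let Hπ : AddSubgroup ((F ≃+* F) → F) :=
    { carrier := Set.range π
      zero_mem' := ⟨1, hπ1⟩
      add_mem' := by
        rintro _ _ ⟨a, rfl⟩ ⟨b, rfl⟩
        exact ⟨a * b, hπadd a b⟩
      neg_mem' := by
        rintro _ ⟨a, rfl⟩
        exact ⟨a, (funext fun σ => (CharTwo.neg_eq (π a σ)).symm)⟩ }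
  have hcomp : ∀ g σ, ∃ u, π u = Pi.single σ (π g σ) := by
    intro g σ
    refine components (fun τ => (μ τ k0 : F)) ?_ Hπ ?_ ⟨g, rfl⟩ σ
    · intro a b h
      simp only [hμ, hk0] at h
      exact conj_ratio_injective Λ hΛ a b h
    · rintro _ ⟨a, rfl⟩
      exact ⟨act k0 a, hπk k0 a⟩
  have hpure_inj : ∀ u σ, π u σ ≠ 0 → π u = Pi.single σ (π u σ) →
      Function.Injective (μ σ) := by
    intro u σ hu hpu
    refine (injective_iff_map_eq_one _).2 fun k hk => by_contra fun hk1 => hu ?_
    have hfix : π (act k u) = π u := by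
      rw [hπk]
      funext τ
      rw [hpu]
      by_cases hτ : τ = σ
      · subst hτ; simp [hk]
      · simp [Pi.single_eq_of_ne hτ]
    have : π (u⁻¹ * act k u) = 0 := by
      have e := hπadd u (u⁻¹ * act k u)
      rw [mul_inv_cancel_left, hfix] at e
      exact left_eq_add.1 e
    rw [(hπ0 u).2 (hsemi k hk1 u ((hπ0 _).1 this))]
    rfl
  have hid : ∀ g, π g (RingEquiv.refl F) = 0 := by
    intro g
    by_contra hg
    obtain ⟨u, hu⟩ := hcomp g (RingEquiv.refl F)
    have hu' : π u (RingEquiv.refl F) = π g (RingEquiv.refl F) := by rw [hu, Pi.single_eq_same]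
    have hinj := hpure_inj u _ (hu'.symm ▸ hg) (by rw [hu', hu])
    have hone : ∀ k, μ (RingEquiv.refl F) k = 1 := fun k => Units.ext (by simp [hμ])
    have hsub : ∀ k : K, k = 1 := fun k => hinj ((hone k).trans (hone 1).symm)
    have : Subsingleton Fˣ := ⟨fun a b => by
      obtain ⟨a', rfl⟩ := hlam.2 a
      obtain ⟨b', rfl⟩ := hlam.2 b
      rw [hsub a', hsub b']⟩
    have hc : Fintype.card Fˣ ≤ 1 := Fintype.card_le_one_iff_subsingleton.2 this
    rw [Fintype.card_units] at hc
    omega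
  -- pure elements
  let S : (F ≃+* F) → P → F → Prop := fun σ u c => π u = Pi.single σ c
  have hΦS : ∀ σ u c, S σ u c → ∀ x, Φ u x = c * σ x := by
    intro σ u c h x
    rw [hπ, h, Finset.sum_eq_single σ]
    · simp
    · intro b _ hb; simp [Pi.single_eq_of_ne hb]
    · intro h; exact absurd (Finset.mem_univ _) h
  have ht0 : ∀ σ u c, S σ u c → c ≠ 0 → t u = 0 := by
    intro σ u c h hc
    have := hΦt u
    rw [hΦS σ u c h, mul_eq_zero] at this
    exact (map_eq_zero σ).1 (this.resolve_left hc)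
  have hAt : ∀ a ∈ A, t a = t 1 := fun a ha => by simpa using hA 1 a ha
  set β : P → P → F := fun g h => t (g * h) + t g + t h with hβdef
  have ht1 : t 1 = 0 := by
    have := hβ 1 1 1
    simp only [one_mul, CharTwo.add_self_eq_zero, zero_add] at this
    exact this
  have hsymm : ∀ g h, β g h = β h g := by
    intro g h
    have := hA (h * g) _ (hcomm g h)
    rw [mul_inv_cancel_left] at this
    simp only [hβdef, this]
    abel
  have hβl : ∀ g g' h, β (g * g') h = β g h + β g' h := hβ
  have hβA : ∀ a ∈ A, ∀ h, β a h = 0 := by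
    intro a ha h
    rw [hsymm]
    simp only [hβdef, hA h a ha, hAt a ha, ht1, add_zero, CharTwo.add_self_eq_zero]
  have hβcongr : ∀ g g' h, π g = π g' → β g h = β g' h := by
    intro g g' h e
    have hg : g⁻¹ * g' ∈ A := (hπ0 _).1 (by
      have e' := hπadd g (g⁻¹ * g')
      rw [mul_inv_cancel_left, ← e] at e'
      exact left_eq_add.1 e')
    have := hβl g (g⁻¹ * g') h
    rwa [mul_inv_cancel_left, hβA _ hg, add_zero, eq_comm] at this
  have hpair : ∀ σ u c τ v d, S σ u c → c ≠ 0 → S τ v d → d ≠ 0 → β u v = 0 := by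
    intro σ u c τ v d hu hc hv hd
    have hτ : τ ≠ RingEquiv.refl F := fun e => hd (by
      have := hid v
      rwa [hv, ← e, Pi.single_eq_same] at this)
    have hfixu : ∀ u' c', S σ u' c' → c' ≠ 0 →
        c' * σ (β u' v) = β u' v ∧ d * τ (β u' v) = β u' v := by
      intro u' c' h' hc'
      have e1 := hrel u' v
      rw [ht0 σ u' c' h' hc', map_zero] at e1
      have e2 := hrel v u'
      rw [ht0 τ v d hv hd, map_zero] at e2
      constructor
      · rw [← hΦS σ u' c' h']
        simp only [hβdef, ht0 σ u' c' h' hc']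
        exact CharTwo.add_eq_zero.1 e1.symm
      · rw [hsymm, ← hΦS τ v d hv]
        simp only [hβdef, ht0 τ v d hv hd]
        exact CharTwo.add_eq_zero.1 e2.symm
    have hσinj := hpure_inj u σ (by rw [hu, Pi.single_eq_same]; exact hc)
      (by rw [hu, Pi.single_eq_same])
    have hσbij : Function.Bijective (μ σ) := by
      have : Finite K := Finite.of_injective _ hlam.1
      exact hσinj.bijective_of_nat_card_le (Nat.card_congr (Equiv.ofBijective _ hlam)).ge
    have hall : ∀ c' : F, ∃ u', S σ u' c' := by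
      intro c'
      by_cases hc' : c' = 0
      · refine ⟨1, ?_⟩
        simp [S, hπ1, hc']
      obtain ⟨k, hk⟩ := hσbij.2 (Units.mk0 (c' / c) (div_ne_zero hc' hc))
      refine ⟨act k u, ?_⟩
      change π _ = _
      rw [hπk]
      funext ρ
      rw [hu]
      by_cases hρ : ρ = σ
      · subst hρ
        simp [hk, hc]
      · simp [Pi.single_eq_of_ne hρ]
    choose w hw using hall
    let ψ : F →+ F := AddMonoidHom.mk' (fun c' => β (w c') v) fun a b => by
      rw [← hβl]
      exact hβcongr _ _ _ (by rw [hw, hπadd, hw, hw, Pi.single_add])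
    have hψ : ∀ c', ψ c' ≠ 0 → c' * σ (ψ c') = ψ c' ∧ d * τ (ψ c') = ψ c' := by
      intro c' h
      refine hfixu (w c') c' (hw c') fun h0 => h ?_
      rw [h0, map_zero]
    by_contra hne
    have hψc : ψ c ≠ 0 := by
      change β (w c) v ≠ 0
      rw [hβcongr (w c) u v (by rw [hw, hu])]
      exact hne
    have hψinj : Function.Injective ψ := by
      refine (injective_iff_map_eq_zero ψ).2 fun c0 h0 => ?_
      have e1 : ψ (c + c0) = ψ c := by rw [map_add, h0, add_zero]
      have e2 := (hψ (c + c0) (by rwa [e1])).1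
      rw [e1, add_mul, (hψ c hψc).1, add_eq_left, mul_eq_zero] at e2
      exact e2.resolve_right ((map_ne_zero σ).2 hψc)
    have hτfix : ∀ y, d * τ y = y := by
      intro y
      by_cases hy : y = 0
      · simp [hy]
      obtain ⟨c', rfl⟩ := Finite.surjective_of_injective hψinj y
      exact (hψ c' hy).2
    have hd1 : d = 1 := by simpa using hτfix 1
    exact hτ (RingEquiv.ext fun y => by simpa [hd1] using hτfix y)
  -- every element is a product of pure ones modulo A
  have hgen : ∀ (Q : P → Prop), (∀ a ∈ A, Q a) → (∀ x y, Q x → Q y → Q (x * y)) →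
      (∀ σ u c, S σ u c → c ≠ 0 → Q u) → ∀ g, Q g := by
    intro Q hQA hQm hQp g
    have hs : ∀ s : Finset (F ≃+* F), ∃ u, Q u ∧ π u = fun τ => if τ ∈ s then π g τ else 0 := by
      intro s
      induction s using Finset.induction_on with
      | empty => exact ⟨1, hQA 1 (one_mem A), by rw [hπ1]; funext τ; simp⟩
      | @insert σ s hσ ih =>
        obtain ⟨u, hQu, hu⟩ := ih
        obtain ⟨u', hu'⟩ := hcomp g σ
        have hQ' : Q u' := by
          by_cases hc : π g σ = 0
          · exact hQA u' ((hπ0 u').1 (by rw [hu', hc, Pi.single_zero]))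
          · exact hQp σ u' _ hu' hc
        refine ⟨u * u', hQm _ _ hQu hQ', ?_⟩
        rw [hπadd, hu, hu']
        funext τ
        by_cases hτ : τ = σ
        · subst hτ; simp [hσ]
        · simp [hτ]
    obtain ⟨u, hQu, hu⟩ := hs Finset.univ
    have hgA : u⁻¹ * g ∈ A := (hπ0 _).1 (by
      have e := hπadd u (u⁻¹ * g)
      rw [mul_inv_cancel_left, hu] at e
      simpa using e)
    simpa using hQm u (u⁻¹ * g) hQu (hQA _ hgA)
  have hβ0 : ∀ σ u c, S σ u c → c ≠ 0 → ∀ h, β h u = 0 := by
    intro σ u c hu hc h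
    refine hgen (fun h => β h u = 0) (fun a ha => hβA a ha u) ?_ ?_ h
    · intro x y hx hy
      rw [hβl, hx, hy, add_zero]
    · intro τ v d hv hd
      exact hpair τ v d σ u c hv hd hu hc
  have hβall : ∀ g h, β g h = 0 := by
    intro g h
    refine hgen (fun g => β g h = 0) (fun a ha => hβA a ha h) ?_ ?_ g
    · intro x y hx hy
      rw [hβl, hx, hy, add_zero]
    · intro σ u c hu hc
      rw [hsymm]
      exact hβ0 σ u c hu hc h
  intro g
  refine hgen (fun g => t g = 0) (fun a ha => (hAt a ha).trans ht1) ?_ ht0 g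
  intro x y hx hy
  have := hβall x y
  simpa [hβdef, hx, hy] using this

end Cfsg.Agent.SuzukiTwo
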