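import Cfsg.Agent.Lib.SuzukiTwo.Layer
import Cfsg.Agent.Lib.SuzukiTwo.Quadratic

/-!
# Higman: in a Suzuki 2-group all squares are central involutions
-/

namespace Cfsg.Agent.SuzukiTwo

variable {P : Type*} [Group P] {K : Subgroup (MulAut P)}

theorem cm_pow_of_mem {A : Subgroup P} (hA : A.Normal) (hab : ∀ a ∈ A, ∀ b ∈ A, a * b = b * a)
    (g : P) {a : P} (ha : a ∈ A) (n : ℕ) : cm g (a ^ n) = cm g a ^ n := by
  induction n with
  | zero => simp [cm]
  | succ n ih => rw [pow_succ, cm_mul_of_mem hA hab g (pow_mem ha n) ha, ih, pow_succ]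

/-- A commutator is a product of three squares. -/
theorem cm_eq_squares (g h : P) : cm g h = g * h * (g * h) *
    (h⁻¹ * (g * g)⁻¹ * h) * (h⁻¹ * h⁻¹) := by
  simp [cm, mul_assoc]

variable [Finite P]

/-- The lowest nontrivial piece: `L`. -/
theorem exists_base (hS : Sz P K) {g0 : P} (hg0 : g0 * g0 * (g0 * g0) ≠ 1) :
    ∃ L : Subgroup P, L.Normal ∧ KInv K L ∧ invSub P ≤ L ∧
      (∀ a ∈ L, ∀ b ∈ L, a * b = b * a) ∧ (∃ x ∈ L, x * x ≠ 1) ∧
      (∀ a ∈ L, a * a * (a * a) = 1 ∧ (∀ g, cm a g * cm a g = 1) ∧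
        ∀ g, g * g * a = a * (g * g)) := by
  classical
  let Z := invSub P
  have : Z.Normal := hS.invSub_normal
  set W : Set P := {y | (∃ g, g * g = y) ∨ y ∈ Z} with hW
  set N := Subgroup.normalClosure W with hNdef
  have hsqN : ∀ g, g * g ∈ N := fun g => Subgroup.subset_normalClosure (Or.inl ⟨g, rfl⟩)
  have hZN : Z ≤ N := fun z hz => Subgroup.subset_normalClosure (Or.inr hz)
  have hNK : KInv K N := by
    intro k x hx
    have hn : (N.comap ((k : MulAut P) : P →* P)).Normal := inferInstance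
    have hle : N ≤ N.comap ((k : MulAut P) : P →* P) := by
      refine Subgroup.normalClosure_le_normal ?_
      rintro y (⟨g, rfl⟩ | hy)
      · change (k : MulAut P) (g * g) ∈ N
        rw [map_mul]
        exact hsqN _
      · exact hZN (hS.kinv_invSub k y hy)
    exact hle hx
  have hsqc : ∀ x ∈ upper Z, ∀ g, g * g * x = x * (g * g) := by
    intro x hx g
    have h1 : cm g x * cm g x = 1 := by
      rw [← hS.mem_invSub, ← cm_inv]
      exact inv_mem (hx g)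
    refine cm_eq_one.1 ?_
    rw [cm_mul_left, hS.commute h1 g, mul_inv_cancel_right, h1]
  have hNc : N ≤ Subgroup.centralizer (upper Z : Set P) := by
    have : (Subgroup.centralizer (upper Z : Set P)).Normal := inferInstance
    refine Subgroup.normalClosure_le_normal ?_
    rintro y (⟨g, rfl⟩ | hy)
    · exact Subgroup.mem_centralizer_iff.2 fun x hx => (hsqc x hx g).symm
    · exact Subgroup.mem_centralizer_iff.2 fun x _ => hS.commute (hS.mem_invSub.1 hy) x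
  have hab : ∀ a ∈ N ⊓ upper Z, ∀ b ∈ N ⊓ upper Z, a * b = b * a := fun a ha b hb =>
    (Subgroup.mem_centralizer_iff.1 (hNc ha.1) b hb.2).symm
  let L : Subgroup P :=
    { carrier := {x | (x ∈ N ∧ x ∈ upper Z) ∧ x * x ∈ Z}
      one_mem' := ⟨⟨one_mem _, one_mem _⟩, by simp [one_mem]⟩
      mul_mem' := by
        rintro a b ⟨ha, ha'⟩ ⟨hb, hb'⟩
        refine ⟨⟨mul_mem ha.1 hb.1, mul_mem ha.2 hb.2⟩, ?_⟩
        rw [sq_mul hab ha hb]
        exact mul_mem ha' hb'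
      inv_mem' := by
        rintro a ⟨ha, ha'⟩
        refine ⟨⟨inv_mem ha.1, inv_mem ha.2⟩, ?_⟩
        rw [← mul_inv_rev]
        exact inv_mem ha' }
  refine ⟨L, ⟨fun x hx g => ?_⟩, ?_, ?_, fun a ha b hb => hab a ha.1 b hb.1, ?_, ?_⟩
  · refine ⟨⟨(inferInstance : N.Normal).conj_mem _ hx.1.1 g,
      (inferInstance : (upper Z).Normal).conj_mem _ hx.1.2 g⟩, ?_⟩
    rw [show g * x * g⁻¹ * (g * x * g⁻¹) = g * (x * x) * g⁻¹ by simp [mul_assoc]]
    exact (inferInstance : Z.Normal).conj_mem _ hx.2 g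
  · intro k x hx
    refine ⟨⟨hNK k x hx.1.1, kinv_upper hS.kinv_invSub k x hx.1.2⟩, ?_⟩
    rw [← map_mul]
    exact hS.kinv_invSub k _ hx.2
  · intro z hz
    refine ⟨⟨hZN hz, fun g => ?_⟩, by rw [hS.mem_invSub.1 hz]; exact one_mem _⟩
    rw [cm_eq_one.2 (hS.commute (hS.mem_invSub.1 hz) g).symm]
    exact one_mem _
  · obtain ⟨y, hyN, hyZ, hyu⟩ := exists_mem_upper hS.pgroup (A := Z) (D := N) (hsqN g0)
      (fun h => hg0 (hS.mem_invSub.1 h))
    obtain ⟨j, hj1, hj2⟩ := exists_pow_boundary hS.pgroup Z hyZ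
    refine ⟨y ^ 2 ^ j, ⟨⟨pow_mem hyN _, pow_mem (show y ∈ upper Z from hyu) _⟩, hj2⟩, fun h => hj1 ?_⟩
    exact hS.mem_invSub.2 h
  · intro a ha
    exact ⟨hS.mem_invSub.1 ha.2, fun g => hS.mem_invSub.1 (ha.1.2 g), hsqc a ha.1.2⟩

/-- Existence of a layer above an invariant normal subgroup. -/
theorem exists_layer (hS : Sz P K) {A D : Subgroup P} [hA : A.Normal] [hD : D.Normal]
    (hAK : KInv K A) (hDK : KInv K D) {x : P} (hx : x ∈ D) (hxA : x ∉ A) (hAD : A ≤ D) :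
    ∃ B : Subgroup P, B.Normal ∧ KInv K B ∧ A ≤ B ∧ B ≤ D ∧ (∃ g ∈ B, g ∉ A) ∧
      (∀ g ∈ B, g * g ∈ A) ∧ ∀ g ∈ B, ∀ p, cm g p ∈ A := by
  let B : Subgroup P :=
    { carrier := {g | (g ∈ D ∧ g ∈ upper A) ∧ g * g ∈ A}
      one_mem' := ⟨⟨one_mem _, one_mem _⟩, by simp [one_mem]⟩
      mul_mem' := by
        rintro a b ⟨ha, ha'⟩ ⟨hb, hb'⟩
        refine ⟨⟨mul_mem ha.1 hb.1, mul_mem ha.2 hb.2⟩, ?_⟩
        rw [show a * b * (a * b) = a * cm b a * a⁻¹ * (a * a) * (b * b) by simp [cm, mul_assoc]]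
        exact mul_mem (mul_mem (hA.conj_mem _ (hb.2 a) a) ha') hb'
      inv_mem' := by
        rintro a ⟨ha, ha'⟩
        refine ⟨⟨inv_mem ha.1, inv_mem ha.2⟩, ?_⟩
        rw [← mul_inv_rev]
        exact inv_mem ha' }
  have hAB : A ≤ B := fun a ha => ⟨⟨hAD ha, fun g => by
    rw [← cm_inv]; exact inv_mem (cm_mem hA g ha)⟩, mul_mem ha ha⟩
  refine ⟨B, ?_, ?_, hAB, fun g hg => hg.1.1, ?_, fun g hg => hg.2, fun g hg => hg.1.2⟩
  · refine ⟨fun g hg p => ⟨⟨hD.conj_mem _ hg.1.1 p,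
      (inferInstance : (upper A).Normal).conj_mem _ hg.1.2 p⟩, ?_⟩⟩
    rw [show p * g * p⁻¹ * (p * g * p⁻¹) = p * (g * g) * p⁻¹ by simp [mul_assoc]]
    exact hA.conj_mem _ hg.2 p
  · intro k g hg
    refine ⟨⟨hDK k g hg.1.1, kinv_upper hAK k g hg.1.2⟩, ?_⟩
    rw [← map_mul]
    exact hAK k _ hg.2
  · obtain ⟨y, hyD, hyA, hyu⟩ := exists_mem_upper hS.pgroup (A := A) (D := D) hx hxA
    obtain ⟨j, hj1, hj2⟩ := exists_pow_boundary hS.pgroup A hyA
    exact ⟨y ^ 2 ^ j, ⟨⟨pow_mem hyD _, pow_mem (show y ∈ upper A from hyu) _⟩, hj2⟩, hj1⟩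

set_option maxHeartbeats 1000000 in
/-- If `e ≥ 3`, the commutators of a layer `B` with `A` are involutions. -/
theorem cm_sq_eq_one (hS : Sz P K) {A B : Subgroup P} {e : ℕ} (hA : Homo K A e) (he : 3 ≤ e)
    (hBK : KInv K B) (hsq : ∀ g ∈ B, g * g ∈ A) :
    ∀ g ∈ B, ∀ a ∈ A, cm g a * cm g a = 1 := by
  classical
  have hcentral : ∀ {z : P}, z * z = 1 → ∀ g : P, g * z * g⁻¹ = z := fun hz g => by
    rw [hS.commute hz g, mul_inv_cancel_right]
  have hcz : ∀ g z : P, z * z = 1 → cm g z = 1 := fun g z hz => cm_eq_one.2 (hS.commute hz g)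
  have hf : ∀ g, ∀ a ∈ A, cm g a ∈ A := fun g a ha => cm_mem hA.normal g ha
  have hfsq : ∀ g, ∀ a ∈ A, cm g (a * a) = cm g a * cm g a := fun g a ha =>
    cm_mul_of_mem hA.normal hA.comm g ha ha
  have hrel : ∀ g ∈ B, ∀ a ∈ A, cm g (cm g a) * cm g a * cm g a = 1 := by
    intro g hg a ha
    rw [← cm_eq_one.2 (hA.comm _ (hsq g hg) _ ha), cm_mul_left,
      show g * cm g a * g⁻¹ = cm g (cm g a) * cm g a by simp [cm, mul_assoc]]
  have hex : ∀ z : P, z * z = 1 → ∃ a ∈ A, a * a * (a * a) = z := by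
    intro z hz
    obtain ⟨a, ha, rfl⟩ := hA.top z hz
    obtain ⟨d, hd⟩ : ∃ d, e - 1 = d + 2 := ⟨e - 3, by omega⟩
    refine ⟨a ^ 2 ^ d, pow_mem ha _, ?_⟩
    rw [hd, pow_add 2 d 2, pow_mul, show (2 : ℕ) ^ 2 = 2 + 2 by norm_num, pow_add, pow_two]
  let w : P → P := fun z => if h : z * z = 1 then (hex z h).choose else 1
  have hwA : ∀ z, w z ∈ A := fun z => by
    by_cases h : z * z = 1
    · simp only [w, dif_pos h]; exact (hex z h).choose_spec.1
    · simp only [w, dif_neg h]; exact one_mem A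
  have hw : ∀ z, z * z = 1 → w z * w z * (w z * w z) = z := fun z h => by
    simp only [w, dif_pos h]; exact (hex z h).choose_spec.2
  let ψ : P → P → P := fun g z => cm g (w z) * cm g (w z)
  have hwd : ∀ g, ∀ z, z * z = 1 → ∀ a ∈ A, a * a * (a * a) = z →
      cm g a * cm g a = ψ g z := by
    intro g z hz a ha haz
    set t := (w z)⁻¹ * a with ht
    have htA : t ∈ A := mul_mem (inv_mem (hwA z)) ha
    have ht4 : t * t * (t * t) = 1 := by
      rw [ht, sq_mul hA.comm (inv_mem (hwA z)) ha,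
        sq_mul hA.comm (mul_mem (inv_mem (hwA z)) (inv_mem (hwA z))) (mul_mem ha ha), haz]
      rw [← mul_inv_rev, ← mul_inv_rev, hw z hz, inv_mul_cancel]
    rw [show a = w z * t by simp [ht], cm_mul_of_mem hA.normal hA.comm g (hwA z) htA,
      sq_mul hA.comm (hf g _ (hwA z)) (hf g t htA), ← hfsq g t htA, hcz g (t * t) ht4, mul_one]
  have hψsq : ∀ g z, z * z = 1 → ψ g z * ψ g z = 1 := by
    intro g z hz
    change cm g (w z) * cm g (w z) * (cm g (w z) * cm g (w z)) = 1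
    rw [← hfsq g _ (hwA z), ← hfsq g _ (mul_mem (hwA z) (hwA z)), hw z hz, hcz g z hz]
  have hψl : ∀ g h z, z * z = 1 → ψ (g * h) z = ψ g z * ψ h z := by
    intro g h z hz
    set v := cm h (w z) with hv
    have hvA : v ∈ A := hf h _ (hwA z)
    have e1 : cm (g * h) (w z) = cm g v * v * cm g (w z) := by
      rw [cm_mul_left, ← hv, show g * v * g⁻¹ = cm g v * v by simp [cm, mul_assoc]]
    change cm (g * h) (w z) * cm (g * h) (w z) = _
    rw [e1, sq_mul hA.comm (mul_mem (hf g v hvA) hvA) (hf g _ (hwA z)),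
      sq_mul hA.comm (hf g v hvA) hvA, ← hfsq g v hvA, hcz g (v * v) (hψsq h z hz), one_mul]
    exact hA.comm _ (mul_mem hvA hvA) _ (mul_mem (hf g _ (hwA z)) (hf g _ (hwA z)))
  have hψr : ∀ g z z', z * z = 1 → z' * z' = 1 → ψ g (z * z') = ψ g z * ψ g z' := by
    intro g z z' hz hz'
    rw [← hwd g (z * z') (hS.mem_invSub.1 (mul_mem (hS.mem_invSub.2 hz) (hS.mem_invSub.2 hz')))
      (w z * w z') (mul_mem (hwA z) (hwA z')) (by
        rw [sq_mul hA.comm (hwA z) (hwA z'), sq_mul hA.comm (mul_mem (hwA z) (hwA z))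
          (mul_mem (hwA z') (hwA z')), hw z hz, hw z' hz']),
      cm_mul_of_mem hA.normal hA.comm g (hwA z) (hwA z'),
      sq_mul hA.comm (hf g _ (hwA z)) (hf g _ (hwA z'))]
  have hψ1 : ∀ g, ψ g 1 = 1 := fun g => by
    have := hψr g 1 1 (one_mul 1) (one_mul 1)
    rwa [one_mul, left_eq_mul] at this
  have hψidem : ∀ g ∈ B, ∀ z, z * z = 1 → ψ g (ψ g z) = ψ g z := by
    intro g hg z hz
    set v := cm g (w z) with hv
    have hvA : v ∈ A := hf g _ (hwA z)
    have hz' := hψsq g z hz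
    set a := w (ψ g z) with ha
    have haA : a ∈ A := hwA _
    set t := v⁻¹ * (a * a) with ht
    have htZ : t * t = 1 := by
      rw [ht, sq_mul hA.comm (inv_mem hvA) (mul_mem haA haA), hw _ hz', ← mul_inv_rev]
      exact inv_mul_cancel _
    have hfv : cm g v = v * v := by
      have h1 := hrel g hg (w z) (hwA z)
      rw [← hv, mul_assoc] at h1
      rw [eq_inv_of_mul_eq_one_left h1]
      exact inv_eq_of_mul_eq_one_right hz'
    change cm g a * cm g a = v * v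
    rw [← hfsq g a haA, show a * a = v * t by simp [ht],
      cm_mul_of_mem hA.normal hA.comm g hvA (mul_mem (inv_mem hvA) (mul_mem haA haA)),
      hcz g t htZ, mul_one, hfv]
  have hψcomm : ∀ g ∈ B, ∀ h ∈ B, ∀ z, z * z = 1 → ψ g (ψ h z) = ψ h (ψ g z) := by
    intro g hg h hh z hz
    have hgz := hψsq g z hz
    have hhz := hψsq h z hz
    have e1 := hψidem (g * h) (mul_mem hg hh) z hz
    rw [hψl g h z hz, hψl g h _ (hS.mem_invSub.1 (mul_mem (hS.mem_invSub.2 hgz)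
      (hS.mem_invSub.2 hhz))), hψr g _ _ hgz hhz, hψr h _ _ hgz hhz, hψidem g hg z hz,
      hψidem h hh z hz] at e1
    have e2 : ψ g (ψ h z) * ψ h (ψ g z) = 1 := by
      rw [mul_assoc, mul_right_inj, ← mul_assoc] at e1
      rwa [mul_eq_right] at e1
    rw [eq_inv_of_mul_eq_one_left e2]
    exact inv_eq_of_mul_eq_one_right (hψsq h _ hgz)
  have hψk : ∀ (k : K) g z, z * z = 1 →
      ψ ((k : MulAut P) g) ((k : MulAut P) z) = (k : MulAut P) (ψ g z) := by
    intro k g z hz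
    rw [← hwd ((k : MulAut P) g) ((k : MulAut P) z) (by rw [← map_mul, hz, map_one])
      ((k : MulAut P) (w z)) (hA.kinv k _ (hwA z)) (by rw [← map_mul, ← map_mul, hw z hz]),
      ← map_cm, ← map_mul]
  -- a common eigenvector
  obtain ⟨S, hSmin⟩ := (Set.toFinite {S : Subgroup P |
      S ≤ invSub P ∧ S ≠ ⊥ ∧ ∀ g ∈ B, ∀ z ∈ S, ψ g z ∈ S}).exists_minimal
    ⟨invSub P, le_rfl, fun h => by
      obtain ⟨x, -, -, hx, hx', -⟩ := hS.two
      exact hx (by simpa [h] using hS.mem_invSub.2 hx'),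
      fun g _ z hz => hS.mem_invSub.2 (hψsq g z (hS.mem_invSub.1 hz))⟩
  obtain ⟨hSZ, hSne, hSinv⟩ := hSmin.1
  have hdich : ∀ g ∈ B, (∀ z ∈ S, ψ g z = 1) ∨ ∀ z ∈ S, ψ g z = z := by
    intro g hg
    have hZ : ∀ z ∈ S, z * z = 1 := fun z hz => hS.mem_invSub.1 (hSZ hz)
    let T : Subgroup P :=
      { carrier := {y | ∃ z ∈ S, ψ g z = y}
        one_mem' := ⟨1, one_mem S, hψ1 g⟩
        mul_mem' := by
          rintro _ _ ⟨a, ha, rfl⟩ ⟨b, hb, rfl⟩
          exact ⟨a * b, mul_mem ha hb, hψr g a b (hZ a ha) (hZ b hb)⟩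
        inv_mem' := by
          rintro _ ⟨a, ha, rfl⟩
          exact ⟨a, ha, (inv_eq_of_mul_eq_one_right (hψsq g a (hZ a ha))).symm⟩ }
    by_cases hT : T = ⊥
    · left
      intro z hz
      have : ψ g z ∈ T := ⟨z, hz, rfl⟩
      rwa [hT, Subgroup.mem_bot] at this
    · right
      have hTS : T ≤ S := by
        rintro _ ⟨a, ha, rfl⟩
        exact hSinv g hg a ha
      have hST : S ≤ T := hSmin.2 ⟨hTS.trans hSZ, hT, by
        rintro h hh _ ⟨a, ha, rfl⟩
        exact ⟨ψ h a, hSinv h hh a ha, hψcomm g hg h hh a (hZ a ha)⟩⟩ hTS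
      intro z hz
      obtain ⟨a, ha, rfl⟩ := hST hz
      exact hψidem g hg a (hZ a ha)
  obtain ⟨⟨z0, hz0S⟩, hz01⟩ := Subgroup.ne_bot_iff_exists_ne_one.1 hSne
  have hz0 : z0 ≠ 1 := fun e => hz01 (Subtype.ext e)
  have hz0' : z0 * z0 = 1 := hS.mem_invSub.1 (hSZ hz0S)
  have hpt : ∀ g ∈ B, ∀ z, z * z = 1 → ψ g z = 1 ∨ ψ g z = z := by
    intro g hg z hz
    by_cases hz1 : z = 1
    · exact Or.inl (hz1 ▸ hψ1 g)
    obtain ⟨k, hk, -⟩ := hS.reg z0 z hz0 hz0' hz1 hz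
    obtain ⟨g', rfl⟩ := (k : MulAut P).surjective g
    have hg' : g' ∈ B := by
      have h := hBK k⁻¹ _ hg
      rw [InvMemClass.coe_inv, MulAut.inv_apply_self] at h
      exact h
    rw [← hk, hψk k g' z0 hz0']
    rcases hdich g' hg' with h | h
    · exact Or.inl (by rw [h z0 hz0S, map_one])
    · exact Or.inr (by rw [h z0 hz0S])
  have hall : ∀ g ∈ B, (∀ z, z * z = 1 → ψ g z = 1) ∨ ∀ z, z * z = 1 → ψ g z = z := by
    intro g hg
    by_contra hc
    push Not at hc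
    obtain ⟨⟨a, ha, ha'⟩, b, hb, hb'⟩ := hc
    have e1 := (hpt g hg a ha).resolve_left ha'
    have e2 := (hpt g hg b hb).resolve_right hb'
    rcases hpt g hg (a * b) (hS.mem_invSub.1 (mul_mem (hS.mem_invSub.2 ha) (hS.mem_invSub.2 hb)))
      with e | e
    · rw [hψr g a b ha hb, e1, e2, mul_one] at e
      exact ha' (e1.trans e)
    · rw [hψr g a b ha hb, e1, e2, mul_one, left_eq_mul] at e
      exact hb' (e2.trans e.symm)
  obtain ⟨k, hk⟩ := hS.exists_ne_one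
  let B0 : Subgroup P :=
    { carrier := {g | g ∈ B ∧ ∀ z, z * z = 1 → ψ g z = 1}
      one_mem' := ⟨one_mem B, fun z _ => by simp [ψ, cm]⟩
      mul_mem' := by
        rintro a b ⟨ha, ha'⟩ ⟨hb, hb'⟩
        exact ⟨mul_mem ha hb, fun z hz => by rw [hψl a b z hz, ha' z hz, hb' z hz, one_mul]⟩
      inv_mem' := by
        rintro a ⟨ha, ha'⟩
        refine ⟨inv_mem ha, fun z hz => ?_⟩
        have := hψl a⁻¹ a z hz
        rwa [inv_mul_cancel, ha' z hz, mul_one, show ψ 1 z = 1 by simp [ψ, cm], eq_comm] at this }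
  have hB0 : KInv K B0 := by
    rintro l a ⟨ha, ha'⟩
    refine ⟨hBK l a ha, fun z hz => ?_⟩
    obtain ⟨y, rfl⟩ := (l : MulAut P).surjective z
    have hy : y * y = 1 := (l : MulAut P).injective (by rw [map_mul, hz, map_one])
    rw [hψk l a y hy, ha' y hy, map_one]
  have hzero : ∀ g ∈ B, ∀ z, z * z = 1 → ψ g z = 1 := by
    intro g hg
    rcases hall g hg with h | h
    · exact h
    refine (hS.mem_of_diff hB0 hk (x := g) ⟨mul_mem (inv_mem hg) (hBK k g hg), fun z hz => ?_⟩).2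
    have e1 := hψl g⁻¹ g z hz
    rw [inv_mul_cancel, show ψ 1 z = 1 by simp [ψ, cm], h z hz] at e1
    have e2 : ψ ((k : MulAut P) g) z = z := by
      obtain ⟨y, rfl⟩ := (k : MulAut P).surjective z
      have hy : y * y = 1 := (k : MulAut P).injective (by rw [map_mul, hz, map_one])
      rw [hψk k g y hy, h y hy]
    rw [hψl _ _ z hz, e2]
    exact e1.symm
  intro g hg
  have main : ∀ i, ∀ a ∈ A, a ^ 2 ^ i = 1 → cm g a * cm g a = 1 := by
    intro i
    induction i with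
    | zero =>
      intro a _ ha
      rw [pow_zero, pow_one] at ha
      simp [ha, cm]
    | succ i ih =>
      intro a ha h
      have h' := ih (a * a) (mul_mem ha ha) (by rw [← pow_two, ← pow_mul, ← pow_succ']; exact h)
      rw [hfsq g a ha] at h'
      set v := cm g a with hv
      have hvA : v ∈ A := hf g a ha
      obtain ⟨c, hc, hcc⟩ := hA.sqrt v hvA (by
        obtain ⟨d, hd⟩ : ∃ d, e - 1 = 2 + d := ⟨e - 3, by omega⟩
        rw [hd, pow_add 2 2 d, pow_mul, show (2 : ℕ) ^ 2 = 2 + 2 by norm_num, pow_add, pow_two, h',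
          one_pow])
      have h8 : (c * c * (c * c)) * (c * c * (c * c)) = 1 := by rw [hcc]; exact h'
      have hfv : cm g v = 1 := by
        rw [← hcc, hfsq g c hc, hwd g _ h8 c hc rfl]
        exact hzero g hg _ h8
      have := hrel g hg a ha
      rwa [← hv, hfv, one_mul] at this
  exact fun a ha => main e a ha (hA.exp a ha)

set_option maxHeartbeats 1000000 in
/-- **Higman.** In a Suzuki 2-group every fourth power is trivial. -/
theorem pow_four_eq_one (hS : Sz P K) (g0 : P) : g0 * g0 * (g0 * g0) = 1 := by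
  classical
  by_contra hg0
  obtain ⟨m, hm, -, ⟨Co⟩⟩ := hS.exists_coord
  obtain ⟨L, hLn, hLK, hZL, hLab, ⟨x0, hx0L, hx0⟩, hLprop⟩ := exists_base hS hg0
  have hL4 : ∀ a ∈ L, a * a * (a * a) = 1 := fun a ha => (hLprop a ha).1
  have hLcm : ∀ a ∈ L, ∀ g, cm a g * cm a g = 1 := fun a ha => (hLprop a ha).2.1
  have hLsq : ∀ a ∈ L, ∀ g, g * g * a = a * (g * g) := fun a ha => (hLprop a ha).2.2
  obtain ⟨A, hLA, hAmax⟩ := Finite.exists_le_maximal
    (p := fun A : Subgroup P => A.Normal ∧ KInv K A ∧ ∀ a ∈ A, ∀ b ∈ A, a * b = b * a)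
    ⟨hLn, hLK, hLab⟩
  obtain ⟨hAn, hAK, hAab⟩ := hAmax.1
  have hZA : invSub P ≤ A := hZL.trans hLA
  have hexp : ∃ e, ∀ a ∈ A, a ^ 2 ^ e = 1 := by
    have : Fact (Nat.Prime 2) := ⟨Nat.prime_two⟩
    obtain ⟨n, hn⟩ := IsPGroup.iff_card.1 hS.pgroup
    exact ⟨n, fun a _ => by rw [← hn, pow_card_eq_one']⟩
  let e := Nat.find hexp
  have hexp' : ∀ a ∈ A, a ^ 2 ^ e = 1 := Nat.find_spec hexp
  have he2 : 2 ≤ e := by
    by_contra h
    refine hx0 ?_
    have := hexp' x0 (hLA hx0L)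
    interval_cases e
    · simp_all
    · simpa [pow_two] using this
  have htopne : ∃ a ∈ A, a ^ 2 ^ (e - 1) ≠ 1 := by
    have h := Nat.find_min hexp (show e - 1 < Nat.find hexp by
      change e - 1 < e; omega)
    push Not at h
    exact h
  have hlow : ∀ j < e, ∀ z : P, z * z = 1 → ∃ a ∈ A, a ^ 2 ^ j = z := by
    intro j hj z hz
    by_cases hz1 : z = 1
    · exact ⟨1, one_mem A, by simp [hz1]⟩
    obtain ⟨a, ha, hatop⟩ := htopne
    have hsq : a ^ 2 ^ (e - 1) * a ^ 2 ^ (e - 1) = 1 := by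
      rw [← pow_add, ← two_mul, ← pow_succ', show e - 1 + 1 = e by omega]
      exact hexp' a ha
    obtain ⟨k, hk, -⟩ := hS.reg _ z hatop hsq hz1 hz
    refine ⟨(k : MulAut P) a ^ 2 ^ (e - 1 - j), pow_mem (hAK k a ha) _, ?_⟩
    rw [← pow_mul, ← pow_add, show e - 1 - j + j = e - 1 by omega, ← map_pow]
    exact hk
  have hsqrt : ∀ i ≤ e - 1, ∀ y ∈ A, y ^ 2 ^ i = 1 → ∃ b ∈ A, b * b = y := by
    intro i
    induction i with
    | zero =>
      intro _ y _ hy
      rw [pow_zero, pow_one] at hy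
      exact ⟨1, one_mem A, by rw [hy, one_mul]⟩
    | succ i ih =>
      intro hi y hy hy1
      obtain ⟨a, ha, haz⟩ := hlow (i + 1) (by omega) (y ^ 2 ^ i) (by
        rw [← pow_add, ← two_mul, ← pow_succ']; exact hy1)
      obtain ⟨b, hb, hbb⟩ := ih (by omega) ((a * a)⁻¹ * y)
        (mul_mem (inv_mem (mul_mem ha ha)) hy) (by
          rw [Commute.mul_pow (hAab _ (inv_mem (mul_mem ha ha)) _ hy), inv_pow, ← pow_two,
            ← pow_mul, ← pow_succ', haz, inv_mul_cancel])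
      exact ⟨a * b, mul_mem ha hb, by rw [sq_mul hAab ha hb, hbb, mul_inv_cancel_left]⟩
  have hH : Homo K A e := ⟨hAn, hAK, hZA, hAab, he2, hexp', hsqrt (e - 1) le_rfl,
    hlow (e - 1) (by omega)⟩
  -- `A` is self-centralising
  have hCA : ∀ g, (∀ a ∈ A, cm g a = 1) → g ∈ A := by
    intro g hg
    by_contra hgA
    let C := Subgroup.centralizer (A : Set P)
    have : C.Normal := inferInstance
    have hCK : KInv K C := by
      intro k c hc
      refine Subgroup.mem_centralizer_iff.2 fun a ha => ?_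
      obtain ⟨b, rfl⟩ := (k : MulAut P).surjective a
      have hb : b ∈ A := by
        have h := hAK k⁻¹ _ ha
        rwa [InvMemClass.coe_inv, MulAut.inv_apply_self] at h
      rw [← map_mul, ← map_mul, Subgroup.mem_centralizer_iff.1 hc b hb]
    have hAC : A ≤ C := fun a ha => Subgroup.mem_centralizer_iff.2 fun b hb => hAab b hb a ha
    obtain ⟨B, hBn, hBK, hAB, hBC, hne, hsq, hcom⟩ := exists_layer hS hAK hCK
      (x := g) (Subgroup.mem_centralizer_iff.2 fun a ha => (cm_eq_one.1 (hg a ha)).symm) hgA hAC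
    have h0 : ∀ g ∈ B, ∀ a ∈ A, cm g a = 1 := fun g hg a ha =>
      cm_eq_one.2 (Subgroup.mem_centralizer_iff.1 (hBC hg) a ha).symm
    have hBab := (layer hS Co hH hBK hAB hne hsq hcom
      (fun g hg a ha => by rw [h0 g hg a ha, one_mul])
      (fun g hg a ha => h0 g hg _ (mul_mem ha ha))
      (fun g hg w hw => by
        obtain ⟨b, hb, hbb⟩ := hsqrt (e - 1) le_rfl w (hZA (hS.mem_invSub.2 hw)) (by
          rw [show e - 1 = e - 2 + 1 by omega, pow_succ', pow_mul, pow_two, hw, one_pow])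
        exact ⟨b, hb, hbb, h0 g hg b hb⟩)
      (Or.inr h0)).2 h0
    obtain ⟨b, hb, hbA⟩ := hne
    exact hbA (hAmax.2 ⟨hBn, hBK, hBab⟩ hAB hb)
  -- `e = 2`
  have he : e = 2 := by
    by_contra hne2
    have he3 : 3 ≤ e := by omega
    have hP : ∃ p, p ∉ A := by
      by_contra h
      push Not at h
      obtain ⟨x, y, hxy⟩ := hS.nonab
      exact hxy (hAab x (h x) y (h y))
    obtain ⟨p, hp⟩ := hP
    obtain ⟨B, -, hBK, hAB, -, hne, hsq, hcom⟩ := exists_layer hS (D := ⊤) hAK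
      (fun _ _ _ => trivial) (x := p) trivial hp le_top
    have h1 := cm_sq_eq_one hS hH he3 hBK hsq
    have h2 : ∀ g ∈ B, ∀ a ∈ A, cm g (a * a) = 1 := fun g hg a ha => by
      rw [cm_mul_of_mem hAn hAab g ha ha, h1 g hg a ha]
    have hroot : ∀ w : P, w * w = 1 → ∃ c ∈ A, c * c = w ∧ ∀ g ∈ B, cm g c = 1 := by
      intro w hw
      obtain ⟨c, hc, hcc⟩ : ∃ c ∈ A, c * c = w := by
        obtain ⟨c, hc, h⟩ := hlow 1 (by omega) w hw
        exact ⟨c, hc, by simpa [pow_two] using h⟩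
      obtain ⟨d, hd, hdd⟩ := hsqrt (e - 1) le_rfl c hc (by
        rw [show e - 1 = e - 3 + 1 + 1 by omega, pow_succ', pow_mul, pow_two, hcc, pow_succ',
          pow_mul, pow_two, hw, one_pow])
      exact ⟨c, hc, hcc, fun g hg => hdd ▸ h2 g hg d hd⟩
    have h3 := (layer hS Co hH hBK hAB hne hsq hcom h1 h2
      (fun g hg w hw => by
        obtain ⟨c, hc, hcc, hcg⟩ := hroot w hw
        exact ⟨c, hc, hcc, hcg g hg⟩) (Or.inl he3)).1
    obtain ⟨b, hb, hbA⟩ := hne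
    exact hbA (hCA b (h3 b hb))
  have hA4 : ∀ a ∈ A, a * a * (a * a) = 1 := fun a ha => by
    have := hexp' a ha
    rwa [he, show (2 : ℕ) ^ 2 = 2 + 2 by norm_num, pow_add, pow_two] at this
  have hAL : ∀ a ∈ A, a ∈ L := by
    intro a ha
    have haa := hA4 a ha
    by_cases h1 : a * a = 1
    · exact hZL (hS.mem_invSub.2 h1)
    obtain ⟨k, hk, -⟩ := hS.reg (x0 * x0) (a * a) hx0 (hL4 x0 hx0L) h1 haa
    set l := (k : MulAut P) x0 with hl
    have hlL : l ∈ L := hLK k x0 hx0L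
    have hi : a * l⁻¹ * (a * l⁻¹) = 1 := by
      rw [sq_mul hAab ha (inv_mem (hLA hlL)), ← mul_inv_rev, hl, ← map_mul, hk, mul_inv_cancel]
    have := mul_mem (hZL (hS.mem_invSub.2 hi)) hlL
    rwa [inv_mul_cancel_right] at this
  have hfZ : ∀ g, ∀ a ∈ A, cm g a * cm g a = 1 := by
    intro g a ha
    rw [← hS.mem_invSub, ← cm_inv]
    exact inv_mem (hS.mem_invSub.2 (hLcm a (hAL a ha) g))
  have hgg : ∀ g, g * g ∈ A := fun g => hCA _ fun a ha => cm_eq_one.2 (hLsq a (hAL a ha) g)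
  have hcmA : ∀ g h, cm g h ∈ A := fun g h => by
    rw [cm_eq_squares]
    refine mul_mem (mul_mem (hgg _) ?_) (hgg h⁻¹)
    simpa using hAn.conj_mem _ (inv_mem (hgg g)) h⁻¹
  have hcentral : ∀ {z : P}, z * z = 1 → ∀ g : P, g * z * g⁻¹ = z := fun hz g => by
    rw [hS.commute hz g, mul_inv_cancel_right]
  -- transfer to the field
  let _ := Fintype.ofFinite (GaloisField 2 m)
  have hα : ∀ x, ∃ a ∈ A, a * a = Co.ofF x := fun x => by
    obtain ⟨a, ha, h⟩ := hlow 1 (by omega) _ (Co.ofF_sq x)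
    exact ⟨a, ha, by simpa [pow_two] using h⟩
  choose α hαA hαsq using hα
  have hwd : ∀ g, ∀ a ∈ A, cm g a = cm g (α (Co.toF (a * a))) := by
    intro g a ha
    set b := α (Co.toF (a * a)) with hb
    have hi : a⁻¹ * b * (a⁻¹ * b) = 1 := by
      rw [sq_mul hAab (inv_mem ha) (hαA _), hαsq, Co.ofF_toF (hA4 a ha), ← mul_inv_rev,
        inv_mul_cancel]
    conv_rhs => rw [show b = a * (a⁻¹ * b) by simp, cm_mul_of_mem hAn hAab g ha
      (mul_mem (inv_mem ha) (hαA _)), cm_eq_one.2 (hS.commute hi g), mul_one]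
  let Φ : P → (GaloisField 2 m →+ GaloisField 2 m) := fun g =>
    AddMonoidHom.mk' (fun x => Co.toF (cm g (α x))) (by
      intro x y
      have e1 := hwd g (α x * α y) (mul_mem (hαA x) (hαA y))
      rw [sq_mul hAab (hαA x) (hαA y), hαsq, hαsq, Co.toF_mul (Co.ofF_sq x) (Co.ofF_sq y),
        Co.toF_ofF, Co.toF_ofF, cm_mul_of_mem hAn hAab g (hαA x) (hαA y)] at e1
      rw [← e1, Co.toF_mul (hfZ g _ (hαA x)) (hfZ g _ (hαA y))])
  have hΦ : ∀ g, ∀ a ∈ A, Co.toF (cm g a) = Φ g (Co.toF (a * a)) := fun g a ha =>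
    congrArg Co.toF (hwd g a ha)
  have hΦadd : ∀ g h, Φ (g * h) = Φ g + Φ h := fun g h => AddMonoidHom.ext fun x => by
    change Co.toF (cm (g * h) (α x)) = Co.toF (cm g (α x)) + Co.toF (cm h (α x))
    rw [cm_mul_left, hcentral (hfZ h _ (hαA x)), Co.toF_mul (hfZ h _ (hαA x)) (hfZ g _ (hαA x)),
      add_comm]
  have hΦker : ∀ g, Φ g = 0 ↔ g ∈ A := by
    intro g
    constructor
    · intro h
      refine hCA g fun a ha => (Co.toF_eq_zero (hfZ g a ha)).1 ?_
      rw [hΦ g a ha, h]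
      rfl
    · intro hg
      ext x
      change Co.toF (cm g (α x)) = 0
      rw [cm_eq_one.2 (hAab g hg _ (hαA x)), Co.toF_one]
  have hΦinv : ∀ g, Φ g⁻¹ = Φ g := by
    intro g
    have h := hΦadd g⁻¹ g
    rw [inv_mul_cancel, (hΦker 1).2 (one_mem A)] at h
    ext x
    exact CharTwo.add_eq_zero.1 (DFunLike.congr_fun h x).symm
  let t : P → GaloisField 2 m := fun g => Co.toF (g * g * (g * g))
  have ht1 : ∀ g : P, g * g * (g * g) * (g * g * (g * g)) = 1 := fun g => by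
    rw [hA4 _ (hgg g)]
  have hc : ∀ g h, g⁻¹ * (h * g * h⁻¹) ∈ A := fun g h => by
    rw [show g⁻¹ * (h * g * h⁻¹) = g⁻¹ * cm h g * g⁻¹⁻¹ by simp [cm, mul_assoc]]
    exact hAn.conj_mem _ (hcmA h g) _
  have ht : ∀ g h, t (g * h) + t g + t h =
      Co.toF (g⁻¹ * (h * g * h⁻¹) * (g⁻¹ * (h * g * h⁻¹))) := by
    intro g h
    set c := g⁻¹ * (h * g * h⁻¹) with hcdef
    have e1 : g * h * (g * h) = g * g * c * (h * h) := by simp [hcdef, mul_assoc]
    have hcA : c ∈ A := hc g h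
    have hcc := hA4 c hcA
    have h1 : g * g * c * (g * g * c) = g * g * (g * g) * (c * c) := sq_mul hAab (hgg g) hcA
    change Co.toF (g * h * (g * h) * (g * h * (g * h))) + _ + _ = _
    rw [e1, sq_mul hAab (mul_mem (hgg g) hcA) (hgg h), h1,
      Co.toF_mul (by rw [sq_mul hAab (mul_mem (hgg g) (hgg g)) (mul_mem hcA hcA), ht1, hcc, one_mul])
        (ht1 h), Co.toF_mul (ht1 g) hcc]
    change t g + _ + t h + t g + t h = _
    rw [add_comm (t g), add_right_comm _ (t h) (t g), CharTwo.add_cancel_right,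
      CharTwo.add_cancel_right]
  have hA' : ∀ g a, a ∈ A → t (g * a) = t g := by
    intro g a ha
    have e1 : g * a * (g * a) = g * g * (cm g⁻¹ a * (a * a)) := by simp [cm, mul_assoc]
    change Co.toF _ = Co.toF _
    rw [e1, sq_mul hAab (hgg g) (mul_mem (cm_mem hAn _ ha) (mul_mem ha ha)),
      sq_mul hAab (cm_mem hAn _ ha) (mul_mem ha ha), hfZ g⁻¹ a ha, hA4 a ha, mul_one, mul_one]
  have h4 : 4 ≤ Fintype.card (GaloisField 2 m) := by
    rw [← Nat.card_eq_fintype_card, GaloisField.card 2 m (by omega)]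
    exact Nat.pow_le_pow_right (show 0 < 2 by norm_num) hm
  have hfinal := quartic_trivial (K.subtype) A Co.lam Co.lam_bij h4 Φ t hΦadd hΦker hA' ?_ ?_ ?_ ?_
    ?_ ?_
  · exact hg0 ((Co.toF_eq_zero (ht1 g0)).1 (hfinal g0))
  · intro g h
    rw [show (h * g)⁻¹ * (g * h) = cm g⁻¹ h⁻¹ by simp [cm, mul_assoc]]
    exact hcmA _ _
  · intro g g' h
    rw [ht (g * g') h, ht g h, ht g' h]
    set c := g⁻¹ * (h * g * h⁻¹)
    set c' := g'⁻¹ * (h * g' * h⁻¹) with hc'
    have hd : g'⁻¹ * c * g'⁻¹⁻¹ ∈ A := hAn.conj_mem _ (hc g h) _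
    rw [show (g * g')⁻¹ * (h * (g * g') * h⁻¹) = g'⁻¹ * c * g'⁻¹⁻¹ * c' by
      simp [c, hc', mul_assoc], sq_mul hAab hd (hc g' h),
      show g'⁻¹ * c * g'⁻¹⁻¹ * (g'⁻¹ * c * g'⁻¹⁻¹) = g'⁻¹ * (c * c) * g'⁻¹⁻¹ by simp [mul_assoc],
      hcentral (hA4 c (hc g h)), Co.toF_mul (hA4 c (hc g h)) (hA4 c' (hc g' h))]
  · intro g
    change Φ g (Co.toF (g * g * (g * g))) = 0
    rw [← hΦ g _ (hgg g), show cm g (g * g) = 1 from cm_eq_one.2 (by simp [mul_assoc]), Co.toF_one]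
  · intro g h
    set c := g⁻¹ * (h * g * h⁻¹) with hcdef
    have hcA : c ∈ A := hc g h
    rw [ht g h, ← hcdef, ← hΦinv g, ← hΦ g⁻¹ c hcA]
    change Φ h (Co.toF (g * g * (g * g))) = _
    rw [← hΦ h _ (hgg g), ← Co.toF_mul (hfZ g⁻¹ c hcA) (hA4 c hcA)]
    congr 1
    refine mul_right_cancel (b := g * g) ?_
    rw [hAab _ (mul_mem (cm_mem hAn g⁻¹ hcA) (mul_mem hcA hcA)) _ (hgg g)]
    simp [hcdef, cm, mul_assoc]
  · intro k hk g hg
    exact hS.mem_of_diff hAK hk hg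
  · intro k g x
    change Co.toF (cm _ _) = _ * Co.toF (cm _ _)
    rw [← Co.toF_smul k (hfZ g _ (hαA x)), map_cm, hΦ _ _ (hAK k _ (hαA x)), ← map_mul, hαsq,
      Co.toF_smul k (Co.ofF_sq x), Co.toF_ofF]
    rfl

end Cfsg.Agent.SuzukiTwo
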