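import Cfsg.Agent.Lib.SuzukiTwo.Structure
import Cfsg.Agent.S1140
import Cfsg.Agent.S1168

/-!
# Suzuki 2-groups of order `q ^ 2` are of type A
-/

namespace Cfsg.Agent.SuzukiTwo

/-- Dedekind: a character which is a combination of characters is one of them. -/
theorem eq_of_combination {G L J : Type*} [Monoid G] [Field L] (α : G →* L) (χ : J → G →* L)
    (s : Finset J) (a : L) (c : J → L) (ha : a ≠ 0)
    (h : ∀ u, a * α u = ∑ j ∈ s, c j * χ j u) : ∃ j, α = χ j := by
  classical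
  by_contra hne
  push Not at hne
  have hαT : α ∉ s.image χ := by
    intro hm
    obtain ⟨j, -, hj⟩ := Finset.mem_image.1 hm
    exact hne j hj.symm
  let g : (G →* L) → L := fun ψ => if ψ = α then a else -∑ j ∈ s.filter (χ · = ψ), c j
  have hz : ∑ ψ ∈ insert α (s.image χ), g ψ • (ψ : G → L) = 0 := by
    funext u
    rw [Finset.sum_insert hαT]
    simp only [Pi.add_apply, Pi.smul_apply, Finset.sum_apply, smul_eq_mul, Pi.zero_apply, g,
      if_pos]
    rw [h u, ← Finset.sum_fiberwise_of_maps_to (t := s.image χ) (g := χ)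
      (fun j hj => Finset.mem_image_of_mem χ hj), ← Finset.sum_add_distrib]
    refine Finset.sum_eq_zero fun ψ hψ => ?_
    rw [if_neg (fun e : ψ = α => hαT (e ▸ hψ)), neg_mul, Finset.sum_mul,
      Finset.sum_congr rfl (fun j hj => by rw [(Finset.mem_filter.1 hj).2]), add_neg_cancel]
  have := linearIndependent_iff'.1 (linearIndependent_monoidHom G L) _ g hz α
    (Finset.mem_insert_self _ _)
  simp only [g, if_pos] at this
  exact ha this

theorem sum_range_two_mul {M : Type*} [AddCommMonoid M] (f : ℕ → M) (s : ℕ) :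
    ∑ i ∈ Finset.range (2 * s), f i = ∑ j ∈ Finset.range s, (f (2 * j) + f (2 * j + 1)) := by
  induction s with
  | zero => simp
  | succ s ih =>
    rw [show 2 * (s + 1) = 2 * s + 1 + 1 by ring, Finset.sum_range_succ, Finset.sum_range_succ, ih,
      Finset.sum_range_succ, add_assoc]

/-- If `x * φ x = 1` forces `x = 1`, then `φ` has odd order. -/
theorem odd_orderOf {F : Type*} [Field F] [Fintype F] [CharP F 2] (φ : F ≃+* F)
    (h : ∀ x : F, x * φ x = 1 → x = 1) : Odd (orderOf φ) := by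
  classical
  have : Finite (F ≃+* F) := Finite.of_injective _ DFunLike.coe_injective
  by_contra hodd
  obtain ⟨s, hs⟩ := Nat.not_odd_iff_even.1 hodd
  rw [← two_mul] at hs
  have hpos : 0 < orderOf φ := orderOf_pos φ
  have hiter : ∀ n y, φ ((φ ^ n) y) = (φ ^ (n + 1)) y := fun n y => by rw [pow_succ']; rfl
  let y0 : F → F := fun y => ∑ j ∈ Finset.range s, (φ ^ (2 * j)) y
  have hφy0 : ∀ y, φ (y0 y) = ∑ j ∈ Finset.range s, (φ ^ (2 * j + 1)) y := fun y => by
    simp only [y0, map_sum, hiter]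
  have hφφ : ∀ y, φ (φ (y0 y)) = y0 y := by
    intro y
    simp only [hφy0, map_sum, hiter, y0]
    have e : ∀ j, 2 * j + 1 + 1 = 2 * (j + 1) := fun j => by ring
    simp only [e]
    have h1 := Finset.sum_range_succ (fun j => (φ ^ (2 * j)) y) s
    have h2 := Finset.sum_range_succ' (fun j => (φ ^ (2 * j)) y) s
    rw [h2, ← hs, pow_orderOf_eq_one, mul_zero, pow_zero] at h1
    exact add_right_cancel h1
  obtain ⟨y, hy⟩ : ∃ y, φ (y0 y) ≠ y0 y := by
    by_contra hall
    push Not at hall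
    have hinj : Set.InjOn (fun i => φ ^ i) ↑(Finset.range (2 * s)) := by
      intro a ha b hb hab
      simp only [Finset.coe_range, Set.mem_Iio] at ha hb
      exact pow_injOn_Iio_orderOf (by rw [Set.mem_Iio, hs]; exact ha)
        (by rw [Set.mem_Iio, hs]; exact hb) hab
    have h0 := linearIndependent_iff'.1 ((Cfsg.Agent.S1140.result (F := F)).1)
      ((Finset.range (2 * s)).image (fun i => φ ^ i)) (fun _ => (1 : F)) ?_ (φ ^ 0)
      (Finset.mem_image_of_mem _ (Finset.mem_range.2 (by omega)))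
    · exact one_ne_zero h0
    funext y
    simp only [one_smul, Finset.sum_apply, Pi.zero_apply]
    rw [Finset.sum_image hinj, sum_range_two_mul, Finset.sum_add_distrib]
    change y0 y + _ = 0
    rw [show (∑ j ∈ Finset.range s, ((φ ^ (2 * j + 1) : F ≃+* F) : F →+* F) y) = y0 y from
      (hφy0 y).symm.trans (hall y)]
    exact CharTwo.add_self_eq_zero _
  have hne : y0 y ≠ 0 := fun e => hy (by rw [e, map_zero])
  have hne' : φ (y0 y) ≠ 0 := (map_ne_zero φ).2 hne
  refine hy ((div_eq_one_iff_eq hne).1 (h _ ?_))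
  rw [map_div₀, hφφ, div_mul_div_comm, mul_comm, div_self (mul_ne_zero hne hne')]

section Mat

variable {F : Type*} [Field F] (φ : F →+* F)

/-- The matrix `(x, y)` of `suzukiTypeA`. -/
noncomputable def tA (x y : F) : GL (Fin 3) F :=
  Matrix.GeneralLinearGroup.mkOfDetNeZero !![1, 0, 0; x, 1, 0; y, φ x, 1]
    (by simp [Matrix.det_fin_three])

theorem coe_tA (x y : F) :
    ((tA φ x y : GL (Fin 3) F) : Matrix (Fin 3) (Fin 3) F) = !![1, 0, 0; x, 1, 0; y, φ x, 1] := rfl

theorem tA_mem (x y : F) : tA φ x y ∈ Cfsg.suzukiTypeA F φ :=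
  Subgroup.subset_closure ⟨x, y, coe_tA φ x y⟩

theorem tA_mul (x y x' y' : F) :
    tA φ x y * tA φ x' y' = tA φ (x + x') (y + y' + φ x * x') := by
  ext i j
  simp only [Units.val_mul, coe_tA, Matrix.mul_apply, Fin.sum_univ_three]
  fin_cases i <;> fin_cases j <;> simp [add_assoc, add_comm, add_left_comm, mul_comm]

theorem tA_zero : tA φ 0 0 = 1 := by
  ext i j
  simp only [coe_tA, Units.val_one, Matrix.one_apply]
  fin_cases i <;> fin_cases j <;> simp

theorem tA_inj {x y x' y' : F} (h : tA φ x y = tA φ x' y') : x = x' ∧ y = y' := by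
  have h' := congrArg (fun g : GL (Fin 3) F => (g : Matrix (Fin 3) (Fin 3) F)) h
  simp only [coe_tA] at h'
  exact ⟨by simpa using congrFun (congrFun h' 1) 0, by simpa using congrFun (congrFun h' 2) 0⟩

theorem exists_tA {g : GL (Fin 3) F} (hg : g ∈ Cfsg.suzukiTypeA F φ) :
    ∃ x y, g = tA φ x y := by
  induction hg using Subgroup.closure_induction with
  | mem g hg =>
    obtain ⟨x, y, h⟩ := hg
    exact ⟨x, y, Units.ext h⟩
  | one => exact ⟨0, 0, (tA_zero φ).symm⟩
  | mul a b _ _ ha hb =>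
    obtain ⟨x, y, rfl⟩ := ha
    obtain ⟨x', y', rfl⟩ := hb
    exact ⟨_, _, tA_mul φ x y x' y'⟩
  | inv a _ ha =>
    obtain ⟨x, y, rfl⟩ := ha
    refine ⟨-x, -y + φ x * x, inv_eq_of_mul_eq_one_right ?_⟩
    rw [tA_mul, ← tA_zero φ]
    congr 1 <;> ring

end Mat

/-- A group with the squaring map of type A is of type A. -/
theorem mulEquiv_of_squaring {P : Type*} [Group P] [Finite P] {F : Type*} [Field F] [CharP F 2]
    (φ : F →+* F) (ξ ζ : P → F) (hξmul : ∀ g h, ξ (g * h) = ξ g + ξ h)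
    (hξ0 : ∀ g, ξ g = 0 ↔ g * g = 1) (hξsurj : Function.Surjective ξ)
    (hζmul : ∀ y z : P, y * y = 1 → z * z = 1 → ζ (y * z) = ζ y + ζ z)
    (hζinj : ∀ z : P, z * z = 1 → ζ z = 0 → z = 1) (hζsurj : ∀ c, ∃ z : P, z * z = 1 ∧ ζ z = c)
    (hsq : ∀ g, ζ (g * g) = φ (ξ g) * ξ g) :
    Nonempty (P ≃* Cfsg.suzukiTypeA F φ) := by
  classical
  have hξ1 : ξ 1 = 0 := (hξ0 1).2 (one_mul 1)
  have hξinv : ∀ g, ξ g⁻¹ = ξ g := fun g => by
    have h := hξmul g⁻¹ g
    rw [inv_mul_cancel, hξ1] at h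
    exact CharTwo.add_eq_zero.1 h.symm
  have hξsq : ∀ g, ξ (g * g) = 0 := fun g => by rw [hξmul, CharTwo.add_self_eq_zero]
  have hζ1 : ζ 1 = 0 := by simpa using hζmul 1 1 (one_mul 1) (one_mul 1)
  let G := Cfsg.suzukiTypeA F φ
  have hG : ∀ x y, tA φ x y ∈ G := tA_mem φ
  let Γ : Subgroup (P × GL (Fin 3) F) :=
    { carrier := {p | ∃ y, p.2 = tA φ (ξ p.1) y}
      one_mem' := ⟨0, by rw [Prod.fst_one, hξ1, tA_zero, Prod.snd_one]⟩
      mul_mem' := by
        rintro a b ⟨y, hy⟩ ⟨y', hy'⟩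
        exact ⟨_, by rw [Prod.snd_mul, hy, hy', tA_mul, ← hξmul, ← Prod.fst_mul]⟩
      inv_mem' := by
        rintro a ⟨y, hy⟩
        refine ⟨-y + φ (ξ a.1) * ξ a.1, ?_⟩
        rw [Prod.snd_inv, Prod.fst_inv, hξinv, hy]
        refine inv_eq_of_mul_eq_one_right ?_
        rw [tA_mul, CharTwo.add_self_eq_zero, ← tA_zero φ]
        congr 1
        rw [add_neg_cancel_left, CharTwo.add_self_eq_zero] }
  let D : Subgroup (P × GL (Fin 3) F) :=
    { carrier := {p | p.1 * p.1 = 1 ∧ p.2 = tA φ 0 (ζ p.1)}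
      one_mem' := ⟨by simp, by rw [Prod.fst_one, hζ1, tA_zero, Prod.snd_one]⟩
      mul_mem' := by
        rintro a b ⟨ha, ha'⟩ ⟨hb, hb'⟩
        have h0 : ξ (a * b).1 = 0 := by
          rw [Prod.fst_mul, hξmul, (hξ0 _).2 ha, (hξ0 _).2 hb, add_zero]
        refine ⟨(hξ0 _).1 h0, ?_⟩
        rw [Prod.snd_mul, ha', hb', tA_mul, Prod.fst_mul, hζmul _ _ ha hb]
        simp
      inv_mem' := by
        rintro a ⟨ha, ha'⟩
        have e : a⁻¹.1 = a.1 := by rw [Prod.fst_inv]; exact inv_eq_of_mul_eq_one_right ha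
        refine ⟨by rw [e]; exact ha, ?_⟩
        rw [e, Prod.snd_inv, ha']
        refine inv_eq_of_mul_eq_one_right ?_
        rw [tA_mul, ← tA_zero φ]
        congr 1 <;> simp [CharTwo.add_self_eq_zero] }
  have hDΓ : D ≤ Γ := fun p hp => ⟨ζ p.1, by rw [hp.2, (hξ0 _).2 hp.1]⟩
  have hsqD : ∀ p ∈ Γ, p * p ∈ D := by
    rintro p ⟨y, hy⟩
    refine ⟨(hξ0 _).1 (by rw [Prod.fst_mul]; exact hξsq _), ?_⟩
    rw [Prod.snd_mul, hy, tA_mul, Prod.fst_mul, hsq, CharTwo.add_self_eq_zero,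
      CharTwo.add_self_eq_zero, zero_add]
  have hsep : ∀ t, ((1 : P), t) ∈ D → t = 1 := by
    rintro t ⟨-, ht⟩
    simpa [hζ1, tA_zero] using ht
  have : Finite F := Finite.of_surjective ξ hξsurj
  obtain ⟨Λ, hΛmax⟩ := (Set.toFinite {Λ : Subgroup (P × GL (Fin 3) F) |
      D ≤ Λ ∧ Λ ≤ Γ ∧ ∀ t, ((1 : P), t) ∈ Λ → t = 1}).exists_maximal ⟨D, le_rfl, hDΓ, hsep⟩
  obtain ⟨hDΛ, hΛΓ, hΛsep⟩ := hΛmax.1
  have hproj : ∀ g, ∃ t, (g, t) ∈ Λ := by
    intro g
    by_contra hg
    set e : P × GL (Fin 3) F := (g, tA φ (ξ g) 0) with he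
    have heΓ : e ∈ Γ := ⟨0, rfl⟩
    have hcmm : ∀ a ∈ Γ, ∀ b ∈ Γ, cm a b ∈ Λ := by
      intro a ha b hb
      rw [cm_eq_squares]
      have h2 : b⁻¹ * (a * a)⁻¹ * b = b⁻¹ * a⁻¹ * b * (b⁻¹ * a⁻¹ * b) := by simp [mul_assoc]
      refine mul_mem (mul_mem (hDΛ (hsqD _ (mul_mem ha hb))) ?_) (hDΛ (hsqD _ (inv_mem hb)))
      rw [h2]
      exact hDΛ (hsqD _ (mul_mem (mul_mem (inv_mem hb) (inv_mem ha)) hb))
    have hconj : ∀ a ∈ Γ, ∀ x ∈ Λ, a * x * a⁻¹ ∈ Λ := fun a ha x hx => by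
      have := mul_mem (hcmm a ha x (hΛΓ hx)) hx
      rwa [cm, inv_mul_cancel_right] at this
    have hee : e * e ∈ Λ := hDΛ (hsqD e heΓ)
    let Λ' : Subgroup (P × GL (Fin 3) F) :=
      { carrier := {x | x ∈ Λ ∨ e * x ∈ Λ}
        one_mem' := Or.inl (one_mem Λ)
        mul_mem' := by
          rintro a b (ha | ha) (hb | hb)
          · exact Or.inl (mul_mem ha hb)
          · refine Or.inr ?_
            rw [show e * (a * b) = e * a * e⁻¹ * (e * b) by simp [mul_assoc]]
            exact mul_mem (hconj e heΓ a ha) hb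
          · refine Or.inr ?_
            rw [← mul_assoc]
            exact mul_mem ha hb
          · refine Or.inl ?_
            rw [show a * b = e⁻¹ * (e * a) * e⁻¹⁻¹ * (e * e)⁻¹ * (e * b) by simp [mul_assoc]]
            exact mul_mem (mul_mem (hconj _ (inv_mem heΓ) _ ha) (inv_mem hee)) hb
        inv_mem' := by
          rintro a (ha | ha)
          · exact Or.inl (inv_mem ha)
          · refine Or.inr ?_
            rw [show e * a⁻¹ = e * (e * a)⁻¹ * e⁻¹ * (e * e) by simp [mul_assoc]]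
            exact mul_mem (hconj e heΓ _ (inv_mem ha)) hee }
    have hΛ' : Λ' ≤ Λ := by
      refine hΛmax.2 ⟨fun x hx => Or.inl (hDΛ hx), ?_, ?_⟩ fun x hx => Or.inl hx
      · rintro x (hx | hx)
        · exact hΛΓ hx
        · simpa using mul_mem (inv_mem heΓ) (hΛΓ hx)
      · rintro t (ht | ht)
        · exact hΛsep t ht
        · exact absurd ⟨_, by simpa [he] using ht⟩ hg
    exact hg ⟨_, hΛ' (show e ∈ Λ' from Or.inr hee)⟩
  choose θ hθ using hproj
  have huniq : ∀ g t, (g, t) ∈ Λ → t = θ g := by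
    intro g t ht
    have := hΛsep ((θ g)⁻¹ * t) (by simpa using mul_mem (inv_mem (hθ g)) ht)
    exact (inv_mul_eq_one.1 this).symm
  have hθG : ∀ g, θ g ∈ G := fun g => by
    obtain ⟨y, hy⟩ := hΛΓ (hθ g)
    rw [show θ g = _ from hy]
    exact hG _ _
  let θ' : P →* G := MonoidHom.mk' (fun g => ⟨θ g, hθG g⟩) fun a b =>
    Subtype.ext (huniq _ _ (mul_mem (hθ a) (hθ b))).symm
  have hinj : Function.Injective θ' := by
    refine (injective_iff_map_eq_one θ').2 fun g hg => ?_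
    have hg' : θ g = 1 := congrArg Subtype.val hg
    obtain ⟨y, hy⟩ := hΛΓ (hθ g)
    change θ g = _ at hy
    rw [hg', ← tA_zero φ] at hy
    have hgg : g * g = 1 := (hξ0 g).1 (tA_inj φ hy).1.symm
    have h := huniq g _ (hDΛ (show (g, tA φ 0 (ζ g)) ∈ D from ⟨hgg, rfl⟩))
    rw [hg', ← tA_zero φ] at h
    exact hζinj g hgg (tA_inj φ h).2
  have hsurj : Function.Surjective θ' := by
    rintro ⟨t, ht⟩
    obtain ⟨x, y, rfl⟩ := exists_tA φ ht
    obtain ⟨g, rfl⟩ := hξsurj x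
    obtain ⟨y1, hy1⟩ := hΛΓ (hθ g)
    obtain ⟨z, hz, hzy⟩ := hζsurj (y - y1)
    refine ⟨g * z, Subtype.ext ?_⟩
    have h1 : θ z = tA φ 0 (y - y1) :=
      (huniq z _ (hDΛ (show (z, tA φ 0 (y - y1)) ∈ D from ⟨hz, by rw [hzy]⟩))).symm
    change θ (g * z) = _
    rw [show θ (g * z) = θ g * θ z from (huniq _ _ (mul_mem (hθ g) (hθ z))).symm, h1,
      show θ g = tA φ (ξ g) y1 from hy1, tA_mul, add_zero, mul_zero, add_zero, add_sub_cancel]
  exact ⟨MulEquiv.ofBijective θ' ⟨hinj, hsurj⟩⟩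

variable {P : Type*} [Group P] [Finite P] {K : Subgroup (MulAut P)}

theorem Sz.exists_typeA (hS : Sz P K) (hcard : Nat.card P = Nat.card (invSub P) ^ 2) :
    ∃ (F : Type) (_ : Field F) (_ : Fintype F) (φ : F ≃+* F),
      Fintype.card F = Nat.card (invSub P) ∧ φ ≠ RingEquiv.refl F ∧ Odd (orderOf φ) ∧
        Nonempty (P ≃* Cfsg.suzukiTypeA F (φ : F →+* F)) := by
  classical
  obtain ⟨m, hm, hZ, ⟨Co⟩⟩ := hS.exists_coord
  let Z := invSub P
  have hZn : Z.Normal := hS.invSub_normal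
  let _ : CommGroup (P ⧸ Z) :=
    { (inferInstance : Group (P ⧸ Z)) with
      mul_comm := fun a b => QuotientGroup.induction_on a fun x => QuotientGroup.induction_on b
        fun y => (QuotientGroup.eq.2 (by
          rw [show (x * y)⁻¹ * (y * x) = cm y⁻¹ x⁻¹ by simp [cm, mul_assoc]]
          exact hS.cm_mem_invSub _ _) :) }
  let W := Additive (P ⧸ Z)
  have hW : Nat.card W = 2 ^ m := by
    have h := Z.card_mul_index
    rw [hcard, hZ, pow_two] at h
    rw [Nat.card_congr (Additive.toMul (α := P ⧸ Z))]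
    exact Nat.eq_of_mul_eq_mul_left (by positivity) h
  let f : K → (P ⧸ Z →* P ⧸ Z) := fun k =>
    QuotientGroup.map Z Z ((k : MulAut P) : P →* P) fun x hx => hS.kinv_invSub k x hx
  let φW : K →* AddMonoid.End W :=
    { toFun := fun k => MonoidHom.toAdditive (f k)
      map_one' := AddMonoidHom.ext fun w => by
        obtain ⟨x, rfl⟩ := QuotientGroup.mk_surjective (Additive.toMul w)
        rfl
      map_mul' := fun k l => AddMonoidHom.ext fun w => by
        obtain ⟨x, rfl⟩ := QuotientGroup.mk_surjective (Additive.toMul w)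
        rfl }
  have hφW : ∀ (k : K) (x : P),
      φW k (Additive.ofMul (x : P ⧸ Z)) = Additive.ofMul (((k : MulAut P) x : P) : P ⧸ Z) :=
    fun _ _ => rfl
  have hzero : ∀ x : P, Additive.ofMul (x : P ⧸ Z) = (0 : W) ↔ x * x = 1 := fun x => by
    rw [← hS.mem_invSub]
    exact (QuotientGroup.eq_one_iff x)
  have hcyc := hS.cyc
  have hK : Nat.card K = 2 ^ m - 1 := by
    rw [Nat.card_congr (Equiv.ofBijective _ Co.lam_bij), Nat.card_units,
      GaloisField.card 2 m (by omega)]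
  have hrepr : ∀ w : W, ∃ x : P, Additive.ofMul (x : P ⧸ Z) = w := fun w =>
    QuotientGroup.mk_surjective (Additive.toMul w)
  have hfree : ∀ (k l : K) (x : P), ¬x * x = 1 →
      φW k (Additive.ofMul (x : P ⧸ Z)) = φW l (Additive.ofMul (x : P ⧸ Z)) → k = l := by
    intro k l x hx h
    by_contra hne
    have e1 : ∀ w : W, φW l⁻¹ (φW k w) = φW (l⁻¹ * k) w := fun w => by rw [map_mul]; rfl
    have e2 : φW l⁻¹ (φW l (Additive.ofMul (x : P ⧸ Z))) = Additive.ofMul (x : P ⧸ Z) := by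
      rw [show φW l⁻¹ (φW l (Additive.ofMul (x : P ⧸ Z))) = (φW l⁻¹ * φW l) _ from rfl, ← map_mul,
        inv_mul_cancel, map_one]
      rfl
    have h'' : φW (l⁻¹ * k) (Additive.ofMul (x : P ⧸ Z)) = Additive.ofMul (x : P ⧸ Z) := by
      rw [← e1, h, e2]
    rw [hφW] at h''
    refine hx (hS.mem_invSub.1 (hS.mem_of_diff hS.kinv_invSub (k := l⁻¹ * k) ?_ ?_))
    · simpa [inv_mul_eq_one, eq_comm] using hne
    · exact QuotientGroup.eq.1 (congrArg Additive.toMul h'').symm
  obtain ⟨m', -, hm', ι', μ, hμ, hι'⟩ := exists_field_coord φW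
    (fun w => by
      obtain ⟨x, rfl⟩ := hrepr w
      rw [← ofMul_mul, ← QuotientGroup.mk_mul]
      exact (hzero _).2 (pow_four_eq_one hS x))
    (by
      let _ := Fintype.ofFinite W
      have h4 : 2 < Fintype.card W := by
        rw [← Nat.card_eq_fintype_card, hW]
        have := Nat.pow_le_pow_right (show 0 < 2 by norm_num) hm
        omega
      obtain ⟨a, b, c, hab, hac, hbc⟩ := Fintype.two_lt_card_iff.1 h4
      by_cases ha : a = 0
      · exact ⟨b, c, fun e => hab (ha.trans e.symm), fun e => hac (ha.trans e.symm), hbc⟩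
      · by_cases hb : b = 0
        · exact ⟨a, c, ha, fun e => hbc (hb.trans e.symm), hac⟩
        · exact ⟨a, b, ha, hb, hab⟩)
    (fun a b ha hb => by
      obtain ⟨x, rfl⟩ := hrepr a
      have hx : ¬x * x = 1 := fun h => ha ((hzero x).2 h)
      let T : K → {w : W // w ≠ 0} := fun k => ⟨φW k (Additive.ofMul (x : P ⧸ Z)), fun h => hx (by
        rw [hφW, hzero, ← map_mul] at h
        exact (k : MulAut P).injective (h.trans (map_one _).symm))⟩
      have hT : Function.Injective T := fun k l h => hfree k l x hx (congrArg Subtype.val h)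
      have hbij : Function.Bijective T := hT.bijective_of_nat_card_le (le_of_eq (by
        let _ := Fintype.ofFinite W
        rw [hK, Nat.card_eq_fintype_card, Fintype.card_subtype_compl, Fintype.card_subtype_eq,
          ← Nat.card_eq_fintype_card, hW]))
      obtain ⟨k, hk⟩ := hbij.2 ⟨b, hb⟩
      exact ⟨k, congrArg Subtype.val hk, fun l hl =>
        hbij.1 ((Subtype.ext hl : T l = ⟨b, hb⟩).trans hk.symm)⟩)
  obtain rfl : m' = m := Nat.pow_right_injective le_rfl (hm'.symm.trans hW)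
  let _ := Fintype.ofFinite (GaloisField 2 m')
  let ξ : P → GaloisField 2 m' := fun g => ι' (Additive.ofMul (g : P ⧸ Z))
  have hξmul : ∀ g h, ξ (g * h) = ξ g + ξ h := fun g h => by
    simp only [ξ, QuotientGroup.mk_mul, ofMul_mul, map_add]
  have hξ0 : ∀ g, ξ g = 0 ↔ g * g = 1 := fun g => by
    simp only [ξ]
    rw [EmbeddingLike.map_eq_zero_iff, hzero]
  have hξsurj : Function.Surjective ξ := fun c => by
    obtain ⟨x, hx⟩ := hrepr (ι'.symm c)
    exact ⟨x, by simp only [ξ, hx, AddEquiv.apply_symm_apply]⟩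
  have hξk : ∀ (k : K) g, ξ ((k : MulAut P) g) = μ k * ξ g := fun k g => by
    simp only [ξ, ← hφW, hι']
  choose s hs using hξsurj
  let Q : GaloisField 2 m' → GaloisField 2 m' := fun x => Co.toF (s x * s x)
  have hQ : ∀ g, Q (ξ g) = Co.toF (g * g) := by
    intro g
    set z := g⁻¹ * s (ξ g) with hz'
    have hzz : z * z = 1 := (hξ0 z).1 (by
      have h := hξmul g z
      rw [hz', mul_inv_cancel_left, hs] at h
      rw [hz']
      exact left_eq_add.1 h)
    change Co.toF _ = _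
    rw [show s (ξ g) = g * z by simp [hz'], show g * z * (g * z) = g * (z * g) * z by
      simp [mul_assoc], ← hS.commute hzz g, show g * (g * z) * z = g * g * (z * z) by
      simp [mul_assoc], hzz, mul_one]
  have hQk : ∀ k x, Q (μ k * x) = Co.lam k * Q x := by
    intro k x
    conv_lhs => rw [← hs x, ← hξk, hQ, ← map_mul, Co.toF_smul k (pow_four_eq_one hS _)]
  have hc : Q 1 ≠ 0 := by
    intro h
    have := (hξ0 (s 1)).2 ((Co.toF_eq_zero (pow_four_eq_one hS _)).1 h)
    rw [hs] at this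
    exact one_ne_zero this
  let e := MulEquiv.ofBijective μ hμ
  let α : (GaloisField 2 m')ˣ →* GaloisField 2 m' :=
    (Units.coeHom _).comp (Co.lam.comp e.symm.toMonoidHom)
  have hα : ∀ u : (GaloisField 2 m')ˣ, Q u = Q 1 * α u := by
    intro u
    have h1 : μ (e.symm u) = u := e.apply_symm_apply u
    conv_lhs => rw [← mul_one (u : GaloisField 2 m'), ← h1, hQk, mul_comm]
    rfl
  have hαinj : ∀ u, α u = 1 → u = 1 := by
    intro u h
    have h' : Co.lam (e.symm u) = 1 := Units.ext h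
    rw [← map_one Co.lam] at h'
    rw [← e.apply_symm_apply u, Co.lam_bij.1 h', map_one]
  have hquad : ∀ x y z, Q (x + y + z) + Q (x + y) + Q (x + z) + Q (y + z) + Q x + Q y + Q z
      = 0 := by
    intro x y z
    have hsum : ∀ u v, Q (ξ u + ξ v) = Q (ξ u) + Q (ξ v) + Co.toF (cm u⁻¹ v) := fun u v => by
      rw [← hξmul, hQ, hQ, hQ, hS.toF_sq_mul Co]
    obtain ⟨g, rfl⟩ : ∃ g, ξ g = x := ⟨_, hs x⟩
    obtain ⟨h, rfl⟩ : ∃ h, ξ h = y := ⟨_, hs y⟩
    obtain ⟨l, rfl⟩ : ∃ l, ξ l = z := ⟨_, hs z⟩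
    rw [← hξmul g h, hsum (g * h) l, hξmul, hsum g h, hsum g l, hsum h l, mul_inv_rev,
      hS.toF_cm_mul_left Co]
    ring_nf
    simp [CharTwo.two_eq_zero, show (4 : GaloisField 2 m') = 2 * 2 by norm_num]
  obtain ⟨S, cc, hS'⟩ := Cfsg.Agent.S1168.result Q hquad
  let χ : (GaloisField 2 m' ≃+* GaloisField 2 m') × (GaloisField 2 m' ≃+* GaloisField 2 m') →
      (GaloisField 2 m')ˣ →* GaloisField 2 m' := fun p =>
    { toFun := fun u => p.1 u * p.2 u
      map_one' := by simp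
      map_mul' := fun u v => by simp only [Units.val_mul, map_mul]; ring }
  obtain ⟨⟨σ, τ⟩, hστ⟩ := eq_of_combination α χ S (Q 1) cc hc fun u => by
    rw [← hα, hS' u]
    rfl
  have hαv : ∀ u : (GaloisField 2 m')ˣ, α u = σ u * τ u := fun u => by rw [hστ]; rfl
  let φ : GaloisField 2 m' ≃+* GaloisField 2 m' := τ.trans σ.symm
  have hQ0 : Q 0 = 0 := by
    have h := hQ 1
    rwa [(hξ0 1).2 (one_mul 1), one_mul, Co.toF_one] at h
  have hQf : ∀ x, Q x = Q 1 * σ (x * φ x) := by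
    intro x
    by_cases hx : x = 0
    · subst hx; simp [hQ0]
    · have := hα (Units.mk0 x hx)
      rw [hαv] at this
      simpa [φ] using this
  refine ⟨GaloisField 2 m', inferInstance, inferInstance, φ, ?_, ?_, ?_, ?_⟩
  · rw [← Nat.card_eq_fintype_card, GaloisField.card 2 m' (by omega), hZ]
  · intro hφ
    obtain ⟨g, h, hgh⟩ := hS.nonab
    refine hgh ?_
    have h1 := hS.toF_sq_mul Co g⁻¹ h
    rw [← hQ, ← hQ, ← hQ, hξmul, hQf, hQf (ξ g⁻¹), hQf (ξ h), hφ, inv_inv] at h1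
    simp only [RingEquiv.refl_apply] at h1
    rw [CharTwo.add_mul_self, map_add, mul_add] at h1
    exact cm_eq_one.1 ((Co.toF_eq_zero (hS.cm_sq _ _)).1 (left_eq_add.1 h1))
  · refine odd_orderOf φ fun x hx => ?_
    have hx0 : x ≠ 0 := left_ne_zero_of_mul_eq_one hx
    have h1 := hα (Units.mk0 x hx0)
    rw [Units.val_mk0, hQf, hx, map_one] at h1
    simpa using congrArg Units.val (hαinj _ (mul_left_cancel₀ hc h1).symm)
  · refine mulEquiv_of_squaring (φ : GaloisField 2 m' →+* GaloisField 2 m') ξ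
      (fun z => σ.symm (Co.toF z / Q 1)) hξmul hξ0 (fun c => ⟨s c, hs c⟩) ?_ ?_ ?_ ?_
    · intro y z hy hz
      rw [Co.toF_mul hy hz, add_div, map_add]
    · intro z hz h
      rw [EmbeddingLike.map_eq_zero_iff, div_eq_zero_iff] at h
      exact (Co.toF_eq_zero hz).1 (h.resolve_right hc)
    · intro c
      exact ⟨Co.ofF (σ c * Q 1), Co.ofF_sq _, by
        simp only [Co.toF_ofF, mul_div_cancel_right₀ _ hc, RingEquiv.symm_apply_apply]⟩
    · intro g
      rw [← hQ, hQf, mul_div_cancel_left₀ _ hc, RingEquiv.symm_apply_apply, mul_comm]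
      rfl

end Cfsg.Agent.SuzukiTwo
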